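import Cfsg.Agent.CurtisTitsD.El
import Cfsg.Agent.CurtisTitsD.Mono
import Cfsg.Agent.SLTwoGen.Basic
import Cfsg.Agent.SpTwoGen.Main

/-!
Tools for generating orthogonal groups by two elements: root elements in linear subgroups of rank two,
propagation of root subgroups, and an element of order prime to the characteristic in `SL(2, F)`.
-/

set_option autoImplicit false
set_option maxHeartbeats 1000000
set_option linter.unusedSectionVars false

open Matrix
open scoped MatrixGroups commutatorElement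

namespace Cfsg.Agent.OmegaTwoGen

open SLMult (tx)
open CurtisTitsA (emb)
open Chev.Ortho (Ok bar lev OG el)

universe u

variable {F : Type u} [Field F] [Fintype F]

/-- The companion element of trace `e`. -/
def compan (e : F) : SL(2, F) :=
  ⟨!![0, 1; -1, e], by rw [Matrix.det_fin_two_of]; ring⟩

theorem compan_mat (e : F) : (compan e).1 = !![0, 1; -1, e] := rfl

/-- An element of order three or four, prime to the characteristic, moving the first basis vector off its line. -/
theorem exists_coprime_elt (p : ℕ) [CharP F p] :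
    ∃ (M : SL(2, F)) (l : ℕ), M ^ l = 1 ∧ Nat.Coprime l p ∧ M.1 1 0 ≠ 0 ∧
      (AutPSL.iotaSL M).1 1 0 ≠ 0 := by
  obtain ⟨a, hp, -⟩ := FiniteField.card F p
  have hi : ∀ e : F, (AutPSL.iotaSL (compan e : SL(2, F))).1 1 0 ≠ 0 := fun e => by
    rw [AutPSL.iotaSL_coe, Matrix.transpose_apply, Matrix.SpecialLinearGroup.coe_inv, compan_mat,
      Matrix.adjugate_fin_two]
    simp
  by_cases h2 : p = 2
  · subst h2
    have e2 : (2 : F) = 0 := by exact_mod_cast CharP.cast_eq_zero F 2
    refine ⟨compan 1, 3, ?_, by decide, by simp [compan_mat], hi 1⟩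
    refine Subtype.ext ?_
    rw [Matrix.SpecialLinearGroup.coe_pow, Matrix.SpecialLinearGroup.coe_one, compan_mat, pow_succ, pow_two]
    ext i j
    fin_cases i <;> fin_cases j <;> simp [Matrix.mul_apply, Fin.sum_univ_two] <;>
      first | linear_combination (0 : F) * e2 | linear_combination e2 | linear_combination -e2
  · refine ⟨compan 0, 4, ?_, ?_, by simp [compan_mat], hi 0⟩
    · refine Subtype.ext ?_
      rw [Matrix.SpecialLinearGroup.coe_pow, Matrix.SpecialLinearGroup.coe_one, compan_mat, pow_succ, pow_succ, pow_two]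
      ext i j
      fin_cases i <;> fin_cases j <;> simp [Matrix.mul_apply, Fin.sum_univ_two]
    · have := ((Nat.coprime_primes Nat.prime_two hp).2 (Ne.symm h2)).pow_left 2
      exact this

/-- Moving a transvection subgroup across a rank one block. -/
theorem block_move {H : Type*} [Group H] (K : Subgroup H) (f : SpecialLinearGroup (Fin 3) F →* H)
    (M : SL(2, F)) (hM : M.1 1 0 ≠ 0) (hc : f (emb CurtisTitsA.h01 M) ∈ K)
    (hx : ∀ t, f (tx 0 2 t) ∈ K) (t : F) : f (tx 1 2 t) ∈ K := by
  have e := CurtisTitsA.colv_conj M (t / M.1 1 0) 0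
  rw [SLMult.tx_zero, mul_one, mul_zero, mul_zero, add_zero, add_zero, mul_div_cancel₀ _ hM] at e
  have h1 : f (emb CurtisTitsA.h01 M * tx 0 2 (t / M.1 1 0) * (emb CurtisTitsA.h01 M)⁻¹) ∈ K := by
    rw [map_mul, map_mul, map_inv]; exact mul_mem (mul_mem hc (hx _)) (inv_mem hc)
  rw [e, map_mul] at h1
  exact (Subgroup.mul_mem_cancel_left K (hx _)).1 h1

omit [Fintype F] in
/-- One root subgroup and the linear root subgroups give all root subgroups of the same kind. -/
theorem spread {n : ℕ} (K : Subgroup (OG F n)) (s : Fin n → Fin n ⊕ Fin n)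
    (hs : ∀ i, lev (s i) = (i : ℕ))
    (hA : ∀ i j, i ≠ j → ∀ t (h : Ok (s i) (bar (s j))), el h t ∈ K)
    {a b : Fin n} (hab : a ≠ b) (h0 : ∀ t (h : Ok (s a) (s b)), el h t ∈ K) :
    ∀ i j, i ≠ j → ∀ t (h : Ok (s i) (s j)), el h t ∈ K := by
  have hl : ∀ i j, i ≠ j → lev (s i) ≠ lev (s j) := fun i j h e => h (Fin.ext (by rwa [hs, hs] at e))
  have ok1 : ∀ i j, i ≠ j → Ok (s i) (s j) := fun i j h => CurtisTitsD.ok_of_lev (hl i j h)
  have ok2 : ∀ i j, i ≠ j → Ok (s i) (bar (s j)) := fun i j h =>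
    CurtisTitsD.ok_of_lev (by rw [Chev.Ortho.lev_bar]; exact hl i j h)
  have step : ∀ i j k, i ≠ j → i ≠ k → j ≠ k → (∀ t (h : Ok (s j) (s k)), el h t ∈ K) →
      ∀ t (h : Ok (s i) (s k)), el h t ∈ K := by
    intro i j k hij hik hjk hprev t h
    have e := CurtisTitsD.el_rel (hl i k hik) (hl i j hij) (hl j k hjk) h (ok2 i j hij) (ok1 j k hjk) 1 t
    rw [one_mul] at e
    rw [← e, commutatorElement_def]
    have m1 := hA i j hij 1 (ok2 i j hij)
    have m2 := hprev t (ok1 j k hjk)
    exact mul_mem (mul_mem (mul_mem m1 m2) (inv_mem m1)) (inv_mem m2)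
  have swap : ∀ i j, i ≠ j → (∀ t (h : Ok (s i) (s j)), el h t ∈ K) →
      ∀ t (h : Ok (s j) (s i)), el h t ∈ K := by
    intro i j hij hprev t h
    rw [CurtisTitsD.el_swap (ok1 i j hij) h]
    exact hprev _ _
  have hb : ∀ p, p ≠ b → ∀ t (h : Ok (s b) (s p)), el h t ∈ K := by
    intro p hp
    refine swap p b hp ?_
    by_cases hpa : p = a
    · subst hpa; exact h0
    · exact step p a b hpa hp hab h0
  intro i j hij
  by_cases hib : i = b
  · subst hib; exact hb j hij.symm
  by_cases hjb : j = b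
  · rw [hjb] at hij ⊢; exact swap b i (Ne.symm hib) (hb i hij)
  exact step i b j hib hij (Ne.symm hjb) (hb j hjb)

/-- A diagonal element of `SL(2, F)`. -/
def dia (γ : Fˣ) : SL(2, F) :=
  ⟨!![(γ : F), 0; 0, ((γ⁻¹ : Fˣ) : F)], by rw [Matrix.det_fin_two_of]; simp⟩

theorem dia_mat (γ : Fˣ) : (dia γ : SL(2, F)).1 = !![(γ : F), 0; 0, ((γ⁻¹ : Fˣ) : F)] := rfl

theorem dia_pow (γ : Fˣ) (k : ℕ) : (dia γ : SL(2, F)) ^ k = dia (γ ^ k) := by
  induction k with
  | zero =>
    refine Subtype.ext ?_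
    rw [pow_zero, pow_zero, Matrix.SpecialLinearGroup.coe_one, dia_mat]
    simp [Matrix.one_fin_two]
  | succ k ih =>
    rw [pow_succ, ih]
    refine Subtype.ext ?_
    rw [Matrix.SpecialLinearGroup.coe_mul, dia_mat, dia_mat, dia_mat]
    simp [Matrix.mul_fin_two, pow_succ, mul_comm]

theorem dia_pow_card (γ : Fˣ) : (dia γ : SL(2, F)) ^ (Fintype.card F - 1) = 1 := by
  classical
  rw [dia_pow, ← Fintype.card_units, pow_card_eq_one]
  refine Subtype.ext ?_
  simp [dia, Matrix.one_fin_two]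

/-- A diagonal element of a block is monomial. -/
theorem dia_mono {n : ℕ} {i j : Fin n} (h : i ≠ j) (γ : Fˣ) :
    CurtisTitsD.Mono (emb h (dia γ : SL(2, F))) 1
      (fun s => if s = i then (γ : F) else if s = j then ((γ⁻¹ : Fˣ) : F) else 1) := by
  refine ⟨fun s => ?_, fun s => ?_⟩
  · simp only
    split_ifs
    · exact γ.ne_zero
    · exact (γ⁻¹).ne_zero
    · exact one_ne_zero
  obtain ⟨a1, a2, a3⟩ := CurtisTitsA.emb_act h (dia γ : SL(2, F)) (Pi.single s (1 : F))
  ext r
  by_cases hri : r = i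
  · subst hri; rw [a1]
    by_cases hs : s = r
    · subst hs; simp [dia, h.symm]
    · simp [dia, Ne.symm hs]
  by_cases hrj : r = j
  · subst hrj; rw [a2]
    by_cases hs : s = r
    · subst hs; simp [dia, h.symm, h]
    · simp [dia, Ne.symm hs]
  rw [a3 r hri hrj]
  by_cases hs : s = r
  · subst hs; simp [hri, hrj]
  · simp [Ne.symm hs]

end Cfsg.Agent.OmegaTwoGen
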