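import Cfsg.Agent.OmegaTwoGen.Common

/-!
The group `Ω⁺(2m, q)`, `m ≥ 4`, is generated by two elements.
-/

set_option autoImplicit false
set_option maxHeartbeats 1000000
set_option linter.unusedSectionVars false
set_option linter.unusedSimpArgs false

open Matrix
open scoped MatrixGroups commutatorElement

namespace Cfsg.Agent.OmegaTwoGen

open SLMult (tx)
open CurtisTitsA (emb)
open Chev.Ortho (Ok bar lev OG el)

universe u

variable {F : Type u} [Field F] [Fintype F]

/-- The signed cyclic monomial element. -/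
theorem exists_cycle (n : ℕ) : ∃ w : SpecialLinearGroup (Fin (n + 1)) F,
    (w : Matrix (Fin (n + 1)) (Fin (n + 1)) F) =
      Matrix.of (fun i j => if j.val = i.val + 1 then 1 else if i.val = n ∧ j.val = 0 then (-1) ^ n else 0) := by
  set M : Matrix (Fin (n + 1)) (Fin (n + 1)) F :=
    Matrix.of (fun i j => if j.val = i.val + 1 then 1 else if i.val = n ∧ j.val = 0 then (-1) ^ n else 0)
  have hM : M.det = 1 := by
    rw [Matrix.det_succ_column_zero, Finset.sum_eq_single (Fin.last n)]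
    · have hsub : M.submatrix (Fin.last n).succAbove Fin.succ = 1 := by
        ext i j
        simp only [Matrix.submatrix_apply, M, Matrix.of_apply, Fin.succAbove_last, Fin.val_castSucc,
          Fin.val_succ, Matrix.one_apply, Fin.ext_iff]
        split_ifs <;> first | rfl | omega
      rw [hsub, Matrix.det_one, mul_one]
      simp [M, ← mul_pow]
    · intro b _ hb
      have : b.val ≠ n := fun e => hb (Fin.ext (by simpa using e))
      simp [M, this]
    · simp
  exact ⟨⟨M, hM⟩, rfl⟩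

theorem plus_two_gen (m : ℕ) (hm : 4 ≤ m) :
    ∃ a b : OG F m, a ∈ commutator (OG F m) ∧ b ∈ commutator (OG F m) ∧
      commutator (OG F m) ≤ Subgroup.closure {a, b} := by
  classical
  rw [Chev.Ortho.commutator_eq (by omega)]
  obtain ⟨n, rfl⟩ : ∃ n, m = n + 1 := ⟨m - 1, by omega⟩
  obtain ⟨p, hp⟩ := CharP.exists F
  obtain ⟨γ, hγ⟩ := IsCyclic.exists_generator (α := Fˣ)
  obtain ⟨M, l, hMl, hlp, hM10, hM10'⟩ := exists_coprime_elt (F := F) p
  obtain ⟨w, hw⟩ := exists_cycle (F := F) n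
  let i0 : Fin (n + 1) := ⟨0, by omega⟩
  let i1 : Fin (n + 1) := ⟨1, by omega⟩
  let i2 : Fin (n + 1) := ⟨2, by omega⟩
  let i3 : Fin (n + 1) := ⟨3, by omega⟩
  obtain ⟨Λ, hΛ⟩ := CurtisTitsD.exists_lin (F := F) (N := n + 1) (m := n + 1) (by omega) Sum.inl
    (fun i j h e => h (Fin.ext e))
  obtain ⟨f, hf⟩ := CurtisTitsD.exists_lin (F := F) (N := 3) (m := n + 1) le_rfl
    (![Sum.inl i2, Sum.inr i3, Sum.inl i1])
    (fun i j h => by
      fin_cases i <;> fin_cases j <;> first | exact absurd rfl h | simp [lev, i1, i2, i3])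
  have e01 : (0 : Fin 3) ≠ 1 := by decide
  set c : OG F (n + 1) := f (emb e01 M) with hc
  have h23 : i2 ≠ i3 := by simp [i2, i3]
  have h01 : i0 ≠ i1 := by simp [i0, i1]
  set h : OG F (n + 1) := Λ (emb h23 (dia γ)) with hh
  set s := c * h with hs
  let x : F → OG F (n + 1) := fun t => Λ (tx i0 i1 t)
  -- membership in the group of root elements
  have hE : ∀ (N : ℕ) (g : SpecialLinearGroup (Fin N) F →* OG F (n + 1)),
      (∀ i j, i ≠ j → ∀ t, ∃ (a b : Fin (n + 1) ⊕ Fin (n + 1)) (hok : Ok a b), g (tx i j t) = el hok t) →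
      ∀ v, g v ∈ Chev.Ortho.E F (n + 1) 0 := by
    intro N g hg v
    have htop : (Chev.Ortho.E F (n + 1) 0).comap g = ⊤ :=
      Classical.sl_eq_top_of_transvection _ fun i j hij t => by
        rw [← SLMult.tx_eq hij, Subgroup.mem_comap]
        obtain ⟨a, b, hok, e⟩ := hg i j hij t
        rw [e]; exact Chev.Ortho.el_mem _ _ (by omega) (by omega)
    have := Subgroup.mem_top v
    rwa [← htop] at this
  have hEΛ : ∀ v, Λ v ∈ Chev.Ortho.E F (n + 1) 0 := hE _ Λ fun i j h t => ⟨_, _, _, hΛ i j h t⟩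
  have hEf : ∀ v, f v ∈ Chev.Ortho.E F (n + 1) 0 := hE _ f fun i j h t => ⟨_, _, _, hf i j h t⟩
  refine ⟨x 1 * s, Λ w, mul_mem (hEΛ _) (mul_mem (hEf _) (hEΛ _)), hEΛ _, ?_⟩
  set K := Subgroup.closure ({x 1 * s, Λ w} : Set (OG F (n + 1))) with hK
  have hwK : Λ w ∈ K := Subgroup.subset_closure (by simp)
  -- commutation
  have hxc : ∀ (i j : Fin (n + 1)), i ≠ j → ((i = i0 ∧ j = i1) ∨ (i = i2 ∧ j = i3)) → ∀ t,
      Commute (Λ (tx i j t)) c := by
    intro i j hij hc' t
    refine Subgroup.mem_centralizer_singleton_iff.1 (?_ : Λ (tx i j t) ∈ Subgroup.centralizer {c}) |>.symm.symm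
    have key : ∀ u v : Fin 3, u ≠ v → (u = 0 ∨ u = 1) → (v = 0 ∨ v = 1) → ∀ r,
        Commute (f (tx u v r)) (Λ (tx i j t)) := by
      intro u v huv hu hv r
      rw [hf u v huv, hΛ i j hij]
      rcases hc' with ⟨rfl, rfl⟩ | ⟨rfl, rfl⟩
      · rcases hu with rfl | rfl <;> rcases hv with rfl | rfl <;> first
          | exact absurd rfl huv
          | (refine CurtisTitsD.el_comm _ _ ?_ ?_ ?_ ?_ r t <;>
              simp [bar, i0, i1, i2, i3, Fin.ext_iff])
      · rcases hu with rfl | rfl <;> rcases hv with rfl | rfl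
        · exact absurd rfl huv
        · exact (CurtisTitsD.el_comm_opp (CurtisTitsD.ok_of_lev (a := Sum.inl i2) (b := Sum.inr i3)
            (by simp [lev, i2, i3])) (CurtisTitsD.ok_of_lev (a := Sum.inl i2) (b := Sum.inl i3)
            (by simp [lev, i2, i3])) t r).symm
        · have o1 : Ok (Sum.inl i2 : Fin (n + 1) ⊕ Fin (n + 1)) (Sum.inr i3) :=
            CurtisTitsD.ok_of_lev (by simp [lev, i2, i3])
          have o2 : Ok (Sum.inr i2 : Fin (n + 1) ⊕ Fin (n + 1)) (Sum.inr i3) :=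
            CurtisTitsD.ok_of_lev (by simp [lev, i2, i3])
          show Commute _ (el o1 t)
          rw [CurtisTitsD.el_swap (CurtisTitsD.ok_swap o1) o1 t]
          exact (CurtisTitsD.el_comm_opp (CurtisTitsD.ok_swap o1) (CurtisTitsD.ok_swap o2) (-t) _).symm
        · exact absurd rfl huv
    have hle := CurtisTitsD.emb_mem_of e01 ((Subgroup.centralizer {Λ (tx i j t)}).comap f)
      (fun r => Subgroup.mem_centralizer_singleton_iff.2 (key 0 1 e01 (Or.inl rfl) (Or.inr rfl) r).eq)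
      (fun r => Subgroup.mem_centralizer_singleton_iff.2 (key 1 0 e01.symm (Or.inr rfl) (Or.inl rfl) r).eq) M
    exact Subgroup.mem_centralizer_singleton_iff.2 (Subgroup.mem_centralizer_singleton_iff.1 hle).symm
  have hxh : ∀ t, Commute (x t) h := fun t => by
    have := (dia_mono h23 γ).conj_tx h01 t
    rw [mul_inv_eq_iff_eq_mul] at this
    simp [i0, i1, i2, i3, Fin.ext_iff] at this
    show Commute (Λ _) (Λ _)
    exact (Commute.symm this).map Λ
  have hxs : Commute (x 1) s := (hxc i0 i1 h01 (Or.inl ⟨rfl, rfl⟩) 1).mul_right (hxh 1)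
  have hch : Commute c h := by
    have hle := CurtisTitsD.emb_mem_of h23 ((Subgroup.centralizer {c}).comap Λ)
      (fun t => Subgroup.mem_centralizer_singleton_iff.2 (hxc i2 i3 h23 (Or.inr ⟨rfl, rfl⟩) t).eq) ?_ (dia γ)
    · exact (Subgroup.mem_centralizer_singleton_iff.1 hle : Commute h c).symm
    · intro t
      refine Subgroup.mem_centralizer_singleton_iff.2 ?_
      have key : ∀ u v : Fin 3, u ≠ v → (u = 0 ∨ u = 1) → (v = 0 ∨ v = 1) → ∀ r,
          Commute (f (tx u v r)) (Λ (tx i3 i2 t)) := by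
        intro u v huv hu hv r
        rw [hf u v huv, hΛ i3 i2 h23.symm]
        have o1 : Ok (Sum.inl i3 : Fin (n + 1) ⊕ Fin (n + 1)) (Sum.inr i2) :=
          CurtisTitsD.ok_of_lev (by simp [lev, i2, i3])
        rcases hu with rfl | rfl <;> rcases hv with rfl | rfl
        · exact absurd rfl huv
        · have o2 : Ok (Sum.inl i2 : Fin (n + 1) ⊕ Fin (n + 1)) (Sum.inl i3) :=
            CurtisTitsD.ok_of_lev (by simp [lev, i2, i3])
          refine (CurtisTitsD.el_swap (CurtisTitsD.ok_swap o2) o2 r : el o2 r = _) ▸ ?_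
          exact (CurtisTitsD.el_comm_opp o1 (CurtisTitsD.ok_swap o2) t _).symm
        · have o2 : Ok (Sum.inr i3 : Fin (n + 1) ⊕ Fin (n + 1)) (Sum.inr i2) :=
            CurtisTitsD.ok_of_lev (by simp [lev, i2, i3])
          show Commute (el o2 r) (el o1 t)
          rw [CurtisTitsD.el_swap (CurtisTitsD.ok_swap o1) o1 t]
          refine (CurtisTitsD.el_swap (CurtisTitsD.ok_swap o2) o2 r : el o2 r = _) ▸ ?_
          exact (CurtisTitsD.el_comm_opp (CurtisTitsD.ok_swap o1) (CurtisTitsD.ok_swap o2) _ _).symm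
        · exact absurd rfl huv
      have hle := CurtisTitsD.emb_mem_of e01 ((Subgroup.centralizer {Λ (tx i3 i2 t)}).comap f)
        (fun r => Subgroup.mem_centralizer_singleton_iff.2 (key 0 1 e01 (Or.inl rfl) (Or.inr rfl) r).eq)
        (fun r => Subgroup.mem_centralizer_singleton_iff.2 (key 1 0 e01.symm (Or.inr rfl) (Or.inl rfl) r).eq) M
      exact (Subgroup.mem_centralizer_singleton_iff.1 hle).symm
  -- the two factors
  have hxp : x 1 ^ p = 1 := by
    show Λ _ ^ p = 1
    rw [← map_pow, SLMult.tx_pow h01, CharP.cast_eq_zero, zero_mul, SLMult.tx_zero, map_one]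
  have hsl : s ^ (l * (Fintype.card F - 1)) = 1 := by
    have hc1 : c ^ l = 1 := by rw [hc, ← map_pow, ← map_pow, hMl, map_one, map_one]
    have hh1 : h ^ (Fintype.card F - 1) = 1 := by
      rw [hh, ← map_pow, ← map_pow, dia_pow_card, map_one, map_one]
    rw [hs, hch.mul_pow, pow_mul, hc1, one_pow, one_mul, mul_comm l, pow_mul, hh1, one_pow]
  obtain ⟨hx1, hsK⟩ := SpTwoGen.factors_mem K hxs hxp hsl
    (Nat.Coprime.mul_left hlp (SpTwoGen.coprime_char p)).symm (Subgroup.subset_closure (by simp))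
  -- all of the first root subgroup
  let a2 : Fin (n + 1) := i0 + 1 + 1
  have ea1 : i0 + 1 = i1 := Fin.ext (by rw [Fin.val_add_one_of_lt (by simp [i0, Fin.lt_def]; omega)])
  have ea2 : i1 + 1 = i2 := Fin.ext (by rw [Fin.val_add_one_of_lt (by simp [i1, Fin.lt_def]; omega)])
  have ea3 : i2 + 1 = i3 := Fin.ext (by rw [Fin.val_add_one_of_lt (by simp [i2, Fin.lt_def]; omega)])
  have hshift : ∀ i j (hij : i ≠ j) (t : F), w * tx (i + 1) (j + 1) t =
      tx i j (SLTwoGen.sgn F i * SLTwoGen.sgn F j * t) * w := fun i j hij t => by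
    rw [SLMult.tx_eq hij, SLMult.tx_eq (show i + 1 ≠ j + 1 by simpa using hij)]
    exact SLTwoGen.w_mul_transvection hw hij t
  have hsg : SLTwoGen.sgn F i0 = 1 ∧ SLTwoGen.sgn F i1 = 1 ∧ SLTwoGen.sgn F i2 = 1 := by
    refine ⟨?_, ?_, ?_⟩ <;> simp [SLTwoGen.sgn, i0, i1, i2] <;> omega
  have hw2 : ∀ t, w * w * tx i2 i3 t * (w * w)⁻¹ = tx i0 i1 t := fun t => by
    have h12 : i1 ≠ i2 := by simp [i1, i2]
    have e1 := hshift i1 i2 h12 t
    rw [ea2, ea3, hsg.2.1, hsg.2.2, one_mul, one_mul] at e1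
    have e2 := hshift i0 i1 h01 t
    rw [ea1, ea2, hsg.1, hsg.2.1, one_mul, one_mul] at e2
    calc w * w * tx i2 i3 t * (w * w)⁻¹ = w * (w * tx i2 i3 t) * w⁻¹ * w⁻¹ := by group
      _ = w * tx i1 i2 t * w⁻¹ := by rw [e1]; group
      _ = _ := by rw [e2]; group
  let S : AddSubgroup F :=
    { carrier := {t | x t ∈ K}
      zero_mem' := by show Λ _ ∈ K; rw [SLMult.tx_zero, map_one]; exact one_mem K
      add_mem' := fun {a b} ha hb => by
        show Λ _ ∈ K
        rw [SLMult.tx_add h01, map_mul]; exact mul_mem ha hb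
      neg_mem' := fun {a} ha => by
        show Λ _ ∈ K
        rw [show tx i0 i1 (-a) = (tx i0 i1 a)⁻¹ from (inv_eq_of_mul_eq_one_right (by
          rw [← SLMult.tx_add h01, add_neg_cancel, SLMult.tx_zero])).symm, map_inv]
        exact inv_mem ha }
  have hS : ∀ t, x t ∈ K := SpTwoGen.eq_top_of_sq S hx1 γ hγ fun t ht => by
    have key : Λ (w * w) * s * (Λ (w * w))⁻¹ * x t * (Λ (w * w) * s * (Λ (w * w))⁻¹)⁻¹ =
        x ((γ : F) ^ 2 * t) := by
      have e := (hxc i2 i3 h23 (Or.inr ⟨rfl, rfl⟩) ((γ : F) ^ 2 * t)).eq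
      have e' := (dia_mono h23 γ).conj_tx h23 t
      rw [if_pos rfl, if_neg h23.symm, if_pos rfl, Units.val_inv_eq_inv_val, div_inv_eq_mul,
        show (γ : F) * t * γ = (γ : F) ^ 2 * t by ring] at e'
      simp only [Equiv.Perm.one_apply] at e'
      show _ = Λ _
      rw [show x t = Λ (tx i0 i1 t) from rfl, ← hw2 t, ← hw2 ((γ : F) ^ 2 * t), hs, hh]
      simp only [map_mul, map_inv]
      have e'' : Λ (emb h23 (dia γ)) * Λ (tx i2 i3 t) * (Λ (emb h23 (dia γ)))⁻¹ =
          Λ (tx i2 i3 ((γ : F) ^ 2 * t)) := by rw [← map_inv, ← map_mul, ← map_mul, e']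
      generalize Λ (tx i2 i3 t) = y at e'' ⊢
      generalize Λ (tx i2 i3 ((γ : F) ^ 2 * t)) = y' at e e'' ⊢
      generalize Λ (emb h23 (dia γ)) = k at e'' ⊢
      generalize Λ w = v
      rw [show v * v * (c * k) * (v * v)⁻¹ * (v * v * y * (v * v)⁻¹) * (v * v * (c * k) * (v * v)⁻¹)⁻¹ =
        v * v * (c * (k * y * k⁻¹) * c⁻¹) * (v * v)⁻¹ by group, e'', ← e, mul_inv_cancel_right]
    have hmem : Λ (w * w) * s * (Λ (w * w))⁻¹ ∈ K := by
      rw [map_mul]
      exact mul_mem (mul_mem (mul_mem hwK hwK) hsK) (inv_mem (mul_mem hwK hwK))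
    show x _ ∈ K
    rw [← key]
    exact mul_mem (mul_mem hmem ht) (inv_mem hmem)
  have hΛK : ∀ v, Λ v ∈ K := fun v => by
    have htop := SLTwoGen.eq_top (H := K.comap Λ) hw (by omega) hwK (fun hij t => by
      rw [Subgroup.mem_comap, ← SLMult.tx_eq hij]
      have e0 : (0 : Fin (n + 1)) = i0 := rfl
      have e1 : (1 : Fin (n + 1)) = i1 := Fin.ext (by simp [i1]; omega)
      rw [e0, e1]; exact hS t)
    have := Subgroup.mem_top v
    rwa [← htop] at this
  have hcK : c ∈ K := by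
    rw [show c = s * h⁻¹ by rw [hs]; group]
    exact mul_mem hsK (inv_mem (hΛK _))
  -- the other root subgroups
  have hA : ∀ i j, i ≠ j → ∀ t (ho : Ok (Sum.inl i : Fin (n + 1) ⊕ Fin (n + 1)) (Sum.inr j)), el ho t ∈ K :=
    fun i j hij t ho => by rw [← show Λ (tx i j t) = el ho t from hΛ i j hij t]; exact hΛK _
  have h21 : i2 ≠ i1 := by simp [i1, i2]
  have hm1 : ∀ t, f (tx 1 2 t) ∈ K := block_move K f M hM10 hcK fun t => by
    rw [hf 0 2 (by decide)]
    exact hA i2 i1 h21 t _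
  have hm2 : ∀ t, f (AutPSL.iotaSL (tx 1 2 t)) ∈ K := by
    refine block_move K (f.comp AutPSL.iotaSL.toMonoidHom) (AutPSL.iotaSL M) hM10' ?_ fun t => ?_
    · show f (AutPSL.iotaSL _) ∈ K
      rw [CurtisTitsA.iota_emb, AutPSL.iotaSL_iotaSL]; exact hcK
    · show f (AutPSL.iotaSL _) ∈ K
      rw [CurtisTitsA.iota_tx (by decide : (0 : Fin 3) ≠ 2), hf 2 0 (by decide)]
      exact hA i1 i2 h21.symm _ _
  have hA' : ∀ i j, i ≠ j → ∀ t (ho : Ok (Sum.inr i : Fin (n + 1) ⊕ Fin (n + 1)) (bar (Sum.inr j))),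
      el ho t ∈ K := by
    intro i j hij t ho
    have ho' : Ok (Sum.inl j : Fin (n + 1) ⊕ Fin (n + 1)) (Sum.inr i) :=
      CurtisTitsD.ok_of_lev (fun e => hij (Fin.ext e.symm))
    show el (b := Sum.inl j) ho t ∈ K
    rw [CurtisTitsD.el_swap ho' ho]
    exact hA j i hij.symm _ _
  have hplus := spread K Sum.inl (fun _ => rfl) (fun i j hij t ho => hA i j hij t ho) (a := i1) (b := i3)
    (by simp [i1, i3]) (fun t ho => by
      have := hm2 (-t)
      rw [CurtisTitsA.iota_tx (by decide : (1 : Fin 3) ≠ 2), neg_neg, hf 2 1 (by decide)] at this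
      exact this)
  have hminus := spread K Sum.inr (fun _ => rfl) hA' (a := i3) (b := i1) (by simp [i1, i3])
    (fun t ho => by
      have := hm1 t
      rw [hf 1 2 (by decide)] at this
      exact this)
  refine (Subgroup.closure_le _).2 ?_
  rintro _ ⟨a, b, ho, t, -, -, rfl⟩
  rcases a with i | i <;> rcases b with j | j
  · exact hplus i j (fun e => ho.1 (by rw [e])) t ho
  · exact hA i j (fun e => ho.2 (by rw [e]; rfl)) t ho
  · rw [SetLike.mem_coe, CurtisTitsD.el_swap (CurtisTitsD.ok_swap ho) ho]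
    exact hA j i (fun e => ho.2 (by rw [e]; rfl)) _ _
  · exact hminus i j (fun e => ho.1 (by rw [e])) t ho

/-- Two generators of a commutator subgroup give two generators of its central quotient. -/
theorem two_gen_quotient {Γ : Type*} [Group Γ]
    (h : ∃ a b : Γ, a ∈ commutator Γ ∧ b ∈ commutator Γ ∧ commutator Γ ≤ Subgroup.closure {a, b}) :
    ∃ a b : commutator Γ ⧸ Subgroup.center (commutator Γ),
      Subgroup.closure ({a, b} : Set (commutator Γ ⧸ Subgroup.center (commutator Γ))) = ⊤ := by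
  obtain ⟨a, b, ha, hb, hle⟩ := h
  let A : commutator Γ := ⟨a, ha⟩
  let B : commutator Γ := ⟨b, hb⟩
  refine ⟨QuotientGroup.mk A, QuotientGroup.mk B, ?_⟩
  have htop : Subgroup.closure ({A, B} : Set (commutator Γ)) = ⊤ := by
    refine Subgroup.map_injective (commutator Γ).subtype_injective ?_
    rw [MonoidHom.map_closure, Set.image_pair, ← MonoidHom.range_eq_map, Subgroup.range_subtype]
    refine le_antisymm ((Subgroup.closure_le _).2 ?_) hle
    rintro _ (rfl | rfl)
    exacts [ha, hb]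
  show Subgroup.closure {QuotientGroup.mk' (Subgroup.center (commutator Γ)) A,
    QuotientGroup.mk' (Subgroup.center (commutator Γ)) B} = ⊤
  rw [← Set.image_pair (QuotientGroup.mk' (Subgroup.center (commutator Γ))), ← MonoidHom.map_closure,
    htop, Subgroup.map_top_of_surjective _ (QuotientGroup.mk'_surjective _)]

end Cfsg.Agent.OmegaTwoGen
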