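import Cfsg.Agent.OmegaTwoGen.Siegel
import Cfsg.Agent.OmegaTwoGen.Plus
import Cfsg.Agent.Classical.QuadStd
import Cfsg.Agent.Classical.LinearBasic

/-!
The group `Ω⁻(2n+2, q)`, `n ≥ 3`, is generated by two elements.
-/

set_option autoImplicit false
set_option maxHeartbeats 1000000
set_option linter.unusedSectionVars false
set_option linter.unusedSimpArgs false

namespace Cfsg.Agent.OmegaTwoGen

open Module QuadraticMap Matrix Classical.Quad

universe u

variable {F : Type u} [Field F]

/-- The space of the minus form. -/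
abbrev MV (F : Type u) (n : ℕ) : Type u := ((Fin n → F) × (Fin n → F)) × (F × F)

/-- The minus form. -/
noncomputable abbrev MQ (n : ℕ) (a b : F) : QuadraticForm F (MV F n) := hyp (binForm a b) n

/-- The linear group on the two maximal singular subspaces. -/
noncomputable def mlin (n : ℕ) (a b : F) : SpecialLinearGroup (Fin n) F →* oG (MQ n a b) where
  toFun A := ⟨{
    toFun := fun x => ((A.1 *ᵥ x.1.1, (A⁻¹).1ᵀ *ᵥ x.1.2), x.2)
    map_add' := fun x y => by simp [Matrix.mulVec_add]
    map_smul' := fun c x => by simp [Matrix.mulVec_smul]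
    invFun := fun x => (((A⁻¹).1 *ᵥ x.1.1, A.1ᵀ *ᵥ x.1.2), x.2)
    left_inv := fun x => by
      simp only [Matrix.mulVec_mulVec, ← Matrix.transpose_mul, ← Matrix.SpecialLinearGroup.coe_mul,
        inv_mul_cancel, Matrix.SpecialLinearGroup.coe_one, Matrix.transpose_one, Matrix.one_mulVec]
    right_inv := fun x => by
      simp only [Matrix.mulVec_mulVec, ← Matrix.transpose_mul, ← Matrix.SpecialLinearGroup.coe_mul,
        mul_inv_cancel, Matrix.SpecialLinearGroup.coe_one, Matrix.transpose_one, Matrix.one_mulVec] },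
    fun x => by
      show hyp (binForm a b) n ((A.1 *ᵥ x.1.1, (A⁻¹).1ᵀ *ᵥ x.1.2), x.2) = hyp (binForm a b) n x
      rw [hyp_apply, hyp_apply]
      congr 1
      show (A.1 *ᵥ x.1.1) ⬝ᵥ ((A⁻¹).1ᵀ *ᵥ x.1.2) = x.1.1 ⬝ᵥ x.1.2
      rw [Matrix.mulVec_transpose, dotProduct_comm, ← Matrix.dotProduct_mulVec, Matrix.mulVec_mulVec,
        ← Matrix.SpecialLinearGroup.coe_mul, inv_mul_cancel, Matrix.SpecialLinearGroup.coe_one, Matrix.one_mulVec,
        dotProduct_comm]⟩
  map_one' := ext_oG fun x => by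
    show (((1 : SpecialLinearGroup (Fin n) F).1 *ᵥ x.1.1,
      ((1 : SpecialLinearGroup (Fin n) F)⁻¹).1ᵀ *ᵥ x.1.2), x.2) = x
    simp
  map_mul' A B := ext_oG fun x => by
    show (((A * B).1 *ᵥ x.1.1, ((A * B)⁻¹).1ᵀ *ᵥ x.1.2), x.2) =
      ((A.1 *ᵥ (B.1 *ᵥ x.1.1), (A⁻¹).1ᵀ *ᵥ ((B⁻¹).1ᵀ *ᵥ x.1.2)), x.2)
    rw [_root_.mul_inv_rev]
    simp only [Matrix.SpecialLinearGroup.coe_mul, Matrix.transpose_mul, ← Matrix.mulVec_mulVec]

theorem mlin_apply (n : ℕ) (a b : F) (A : SpecialLinearGroup (Fin n) F) (x : MV F n) :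
    (mlin n a b A).1 x = ((A.1 *ᵥ x.1.1, (A⁻¹).1ᵀ *ᵥ x.1.2), x.2) := rfl

theorem mlin_mem_commutator {n : ℕ} (hn : 3 ≤ n) (a b : F) (A : SpecialLinearGroup (Fin n) F) :
    mlin n a b A ∈ commutator (oG (MQ n a b)) := by
  have h := Classical.commutator_sl_eq_top (ι := Fin n) (F := F) (Or.inl (by simpa using hn))
  have hA : A ∈ commutator (SpecialLinearGroup (Fin n) F) := by rw [h]; trivial
  rw [commutator_def] at hA ⊢
  have := Subgroup.mem_map_of_mem (mlin n a b) hA
  rw [Subgroup.map_commutator] at this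
  exact Subgroup.commutator_mono le_top le_top this

/-- Scalar diagonal determinant one. -/
def mdia {n : ℕ} (d : Fin n → Fˣ) (hd : ∏ i, d i = 1) : SpecialLinearGroup (Fin n) F :=
  ⟨Matrix.diagonal fun i => (d i : F), by
    rw [Matrix.det_diagonal, ← Units.coe_prod, hd, Units.val_one]⟩

theorem mdia_apply {n : ℕ} (a b : F) (d : Fin n → Fˣ) (hd : ∏ i, d i = 1) (x : MV F n) :
    (mlin n a b (mdia d hd)).1 x =
      ((fun i => (d i : F) * x.1.1 i, fun i => ((d i)⁻¹ : Fˣ) * x.1.2 i), x.2) := by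
  have hd' : ∏ i, (d i)⁻¹ = 1 := by rw [Finset.prod_inv_distrib, hd, inv_one]
  have hi : (mdia d hd)⁻¹ = mdia (fun i => (d i)⁻¹) hd' := by
    refine inv_eq_of_mul_eq_one_right (Subtype.ext ?_)
    rw [Matrix.SpecialLinearGroup.coe_mul, Matrix.SpecialLinearGroup.coe_one]
    show Matrix.diagonal _ * Matrix.diagonal _ = 1
    rw [Matrix.diagonal_mul_diagonal, ← Matrix.diagonal_one]
    congr 1
    funext i
    simp
  rw [mlin_apply, hi]
  simp only [mdia, Matrix.diagonal_transpose]
  refine Prod.ext (Prod.ext (funext fun i => ?_) (funext fun i => ?_)) rfl <;>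
    simp only [Matrix.mulVec_diagonal]

/-- The standard singular vectors. -/
def cv (N : ℕ) (k : ℕ) : MV F (N + 1) :=
  if h : k % (2 * (N + 1)) < N + 1 then ((Pi.single ⟨_, h⟩ 1, 0), 0)
  else ((0, Pi.single ⟨k % (2 * (N + 1)) - (N + 1), by
    have := Nat.mod_lt k (show 0 < 2 * (N + 1) by omega)
    omega⟩ 1), 0)

/-- An element of the anisotropic part. -/
def wv (N : ℕ) (z : F × F) : MV F (N + 1) := ((0, 0), z)

variable {N : ℕ}

theorem cv_low {k : ℕ} (h : k < N + 1) : cv (F := F) N k = ((Pi.single ⟨k, h⟩ 1, 0), 0) := by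
  rw [cv, dif_pos (by rw [Nat.mod_eq_of_lt (by omega)]; exact h)]
  simp only [Nat.mod_eq_of_lt (show k < 2 * (N + 1) by omega)]

theorem cv_high {k : ℕ} (h1 : N + 1 ≤ k) (h2 : k < 2 * (N + 1)) :
    cv (F := F) N k = ((0, Pi.single ⟨k - (N + 1), by omega⟩ 1), 0) := by
  rw [cv, dif_neg (by rw [Nat.mod_eq_of_lt h2]; omega)]
  simp only [Nat.mod_eq_of_lt h2]

theorem cv_mod (k : ℕ) : cv (F := F) N (k % (2 * (N + 1))) = cv N k := by
  have key : ∀ x y : ℕ, x % (2 * (N + 1)) = y % (2 * (N + 1)) → cv (F := F) N x = cv N y := by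
    intro x y hxy
    unfold cv
    by_cases h : x % (2 * (N + 1)) < N + 1
    · rw [dif_pos h, dif_pos (hxy ▸ h)]; simp only [hxy]
    · rw [dif_neg h, dif_neg (hxy ▸ h)]; simp only [hxy]
  exact key _ _ (Nat.mod_mod k _)

variable {a b : F}

theorem polar_MQ (x y : MV F (N + 1)) : polar (MQ (N + 1) a b) x y =
    (∑ i, (x.1.1 i * y.1.2 i + y.1.1 i * x.1.2 i)) + polar (binForm a b) x.2 y.2 := polar_hyp _ _ x y

theorem Q_cv (k : ℕ) : MQ (N + 1) a b (cv N k) = 0 := by
  rw [← cv_mod]
  have hk := Nat.mod_lt k (show 0 < 2 * (N + 1) by omega)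
  by_cases h : k % (2 * (N + 1)) < N + 1
  · rw [cv_low h, hyp_apply]; simp
  · rw [cv_high (by omega) hk, hyp_apply]; simp

theorem polar_zero_cv (d : ℕ) :
    polar (MQ (N + 1) a b) (cv N 0) (cv N d) = if d % (2 * (N + 1)) = N + 1 then 1 else 0 := by
  rw [← cv_mod (k := d), cv_low (show 0 < N + 1 by omega), polar_MQ]
  have hk := Nat.mod_lt d (show 0 < 2 * (N + 1) by omega)
  by_cases h : d % (2 * (N + 1)) < N + 1
  · rw [cv_low h, if_neg (by omega)]; simp [polar]
  · rw [cv_high (by omega) hk]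
    by_cases h' : d % (2 * (N + 1)) = N + 1
    · rw [if_pos h']
      simp [h', polar, Pi.single_apply]
    · rw [if_neg h']
      rw [Finset.sum_eq_zero, zero_add]
      · simp [polar]
      intro i _
      simp only [Pi.single_apply, Pi.zero_apply, mul_zero, zero_mul, add_zero, zero_add, Fin.ext_iff]
      split_ifs <;> first | omega | simp

theorem polar_cv_wv (d : ℕ) (z : F × F) : polar (MQ (N + 1) a b) (cv N d) (wv N z) = 0 := by
  rw [← cv_mod]
  have hk := Nat.mod_lt d (show 0 < 2 * (N + 1) by omega)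
  by_cases h : d % (2 * (N + 1)) < N + 1
  · rw [cv_low h, polar_MQ]; simp [wv, polar]
  · rw [cv_high (by omega) hk, polar_MQ]; simp [wv, polar]

theorem polar_wv (z z' : F × F) : polar (MQ (N + 1) a b) (wv N z) (wv N z') = polar (binForm a b) z z' := by
  rw [polar_MQ]; simp [wv]

theorem Q_wv (z : F × F) : MQ (N + 1) a b (wv N z) = binForm a b z := by rw [hyp_apply]; simp [wv]

/-- The reflection vector of the hyperbolic part. -/
def rv (N : ℕ) : MV F (N + 1) := ((Pi.single (Fin.last N) 1, Pi.single (Fin.last N) 1), 0)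

theorem Q_rv : MQ (N + 1) a b (rv N) = 1 := by rw [hyp_apply]; simp [rv, Pi.single_apply]

theorem polar_rv (x : MV F (N + 1)) :
    polar (MQ (N + 1) a b) x (rv N) = x.1.1 (Fin.last N) + x.1.2 (Fin.last N) := by
  rw [polar_MQ]; simp [rv, Pi.single_apply, polar, Finset.sum_add_distrib]

theorem Q_zeta : MQ (N + 1) a b (wv N (1, 0)) = 1 := by rw [Q_wv, binForm_apply]; ring

/-- The reflection of the anisotropic part. -/
def zflip (a b : F) (z : F × F) : F × F := z - polar (binForm a b) z (1, 0) • (1, 0)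

theorem zflip_zflip (z : F × F) : zflip a b (zflip a b z) = z := by
  simp only [zflip, polar_sub_left, polar_smul_left, smul_eq_mul, polar_self', binForm_apply]
  match_scalars <;> ring

/-- The monomial element cycling the singular vectors. -/
theorem exists_minus_cycle [Fintype F] (hN : 2 ≤ N) (hnd : (polarBilin (MQ (N + 1) a b)).Nondegenerate) : ∃ w : oG (MQ (N + 1) a b), w ∈ commutator (oG (MQ (N + 1) a b)) ∧
    (∀ k, ∃ s : F, s ≠ 0 ∧ w.1 (cv N k) = s • cv N (k + 1)) ∧ ∀ z, w.1 (wv N z) = wv N (zflip a b z) := by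
  classical
  obtain ⟨M, hM⟩ := exists_cycle (F := F) N
  let A : SpecialLinearGroup (Fin (N + 1)) F := ⟨M.1ᵀ, by rw [Matrix.det_transpose]; exact M.2⟩
  set c : F := (-1) ^ N with hc
  have hcc : c * c = 1 := by rw [hc, ← mul_pow]; simp
  have hA : ∀ i j : Fin (N + 1), A.1 i j =
      if i.val = j.val + 1 then 1 else if j.val = N ∧ i.val = 0 then c else 0 := fun i j => by
    show M.1ᵀ i j = _
    rw [Matrix.transpose_apply, hM]; rfl
  have horth : A.1ᵀ * A.1 = 1 := by
    ext i j
    rw [Matrix.mul_apply, Matrix.one_apply]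
    simp only [Matrix.transpose_apply, hA]
    by_cases hi : i.val = N
    · rw [Finset.sum_eq_single 0]
      · simp only [Fin.val_zero, hi]
        by_cases hij : i = j
        · subst hij; simp [hi, hcc]
        · have : j.val ≠ N := fun e => hij (Fin.ext (by omega))
          simp [hij, this]
      · intro r _ hr
        have : r.val ≠ 0 := fun e => hr (Fin.ext (by simp [e]))
        simp [hi, this]
        intro h'; omega
      · simp
    · rw [Finset.sum_eq_single ⟨i.val + 1, by omega⟩]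
      · by_cases hij : i = j
        · subst hij; simp
        · have : i.val ≠ j.val := fun e => hij (Fin.ext e)
          simp [hij, this]
      · intro r _ hr
        have : r.val ≠ i.val + 1 := fun e => hr (Fin.ext e)
        simp [this, hi]
      · simp
  have hAinv : (A⁻¹).1ᵀ = A.1 := by
    have h1 : A.1 * (A⁻¹).1 = 1 := by
      rw [← Matrix.SpecialLinearGroup.coe_mul, mul_inv_cancel, Matrix.SpecialLinearGroup.coe_one]
    have h2 : A.1ᵀ = (A⁻¹).1 := by
      rw [← mul_one A.1ᵀ, ← h1, ← Matrix.mul_assoc, horth, Matrix.one_mul]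
    rw [← h2, Matrix.transpose_transpose]
  have hcol : ∀ j : Fin (N + 1), A.1 *ᵥ Pi.single j 1 =
      if h : j.val < N then Pi.single (⟨j.val + 1, by omega⟩ : Fin (N + 1)) 1 else c • Pi.single 0 1 := by
    intro j
    funext i
    rw [Matrix.mulVec_single_one, Matrix.col_apply, hA]
    split_ifs <;> simp only [Pi.single_apply, Pi.smul_apply, Fin.ext_iff, Fin.val_zero, smul_eq_mul] <;>
      split_ifs <;> first | rfl | (exfalso; omega) | simp
  have hr : MQ (N + 1) a b (rv N) ≠ 0 := by rw [Q_rv]; exact one_ne_zero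
  have hz : MQ (N + 1) a b (wv N (1, 0)) ≠ 0 := by rw [Q_zeta]; exact one_ne_zero
  refine ⟨mlin (N + 1) a b A * (rO hr * rO hz), mul_mem (mlin_mem_commutator (by omega) a b A) ?_, ?_, ?_⟩
  · exact rO_mul_mem_commutator hnd hr hz (t := 1) (by rw [Q_rv, Q_zeta]; ring)
  · have hlt : ∀ k, k < 2 * (N + 1) → ∃ s : F, s ≠ 0 ∧
        (mlin (N + 1) a b A * (rO hr * rO hz)).1 (cv N k) = s • cv N (k + 1) := by
      intro k hk
      have hfix : (rO hz).1 (cv N k) = cv N k := by rw [rO_apply, polar_cv_wv]; simp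
      rw [oG_mul_apply, oG_mul_apply, hfix, rO_apply, Q_rv, div_one, polar_rv, mlin_apply, hAinv]
      have hc0 : c ≠ 0 := left_ne_zero_of_mul_eq_one hcc
      by_cases h1 : k < N
      · refine ⟨1, one_ne_zero, ?_⟩
        have hne : (⟨k, by omega⟩ : Fin (N + 1)) ≠ Fin.last N := by simp [Fin.ext_iff]; omega
        rw [cv_low (show k < N + 1 by omega), cv_low (show k + 1 < N + 1 by omega)]
        simp [Pi.single_apply, hne.symm, hcol, h1]
      by_cases h2 : k = N
      · subst h2
        refine ⟨-c, neg_ne_zero.2 hc0, ?_⟩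
        rw [cv_low (show k < k + 1 by omega), cv_high (le_refl (k + 1)) (by omega)]
        have e : (⟨k, by omega⟩ : Fin (k + 1)) = Fin.last k := rfl
        simp [e, rv, Pi.single_apply, hcol, Matrix.mulVec_neg]
      by_cases h3 : k < 2 * N + 1
      · refine ⟨1, one_ne_zero, ?_⟩
        have hne : (⟨k - (N + 1), by omega⟩ : Fin (N + 1)) ≠ Fin.last N := by simp [Fin.ext_iff]; omega
        rw [cv_high (show N + 1 ≤ k by omega) hk, cv_high (show N + 1 ≤ k + 1 by omega) (by omega)]
        simp [Pi.single_apply, hne.symm, hcol, show k - (N + 1) < N by omega]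
        exact congrArg (fun i => (Pi.single i (1 : F) : Fin (N + 1) → F)) (Fin.ext (show _ = _ by simp; omega))
      · refine ⟨-c, neg_ne_zero.2 hc0, ?_⟩
        rw [cv_high (show N + 1 ≤ k by omega) hk, ← cv_mod (k := k + 1),
          show k + 1 = 2 * (N + 1) by omega, Nat.mod_self, cv_low (show 0 < N + 1 by omega)]
        have e : (⟨k - (N + 1), by omega⟩ : Fin (N + 1)) = Fin.last N := Fin.ext (by simp; omega)
        simp [e, rv, Pi.single_apply, hcol, Matrix.mulVec_neg]
    intro k
    obtain ⟨s, hs, e⟩ := hlt (k % (2 * (N + 1))) (Nat.mod_lt _ (by omega))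
    refine ⟨s, hs, ?_⟩
    rw [cv_mod] at e
    rw [e, ← cv_mod (k := k + 1), ← cv_mod (k := k % _ + 1), Nat.add_mod k 1, Nat.add_mod (k % _) 1, Nat.mod_mod]
  · intro z
    rw [oG_mul_apply, oG_mul_apply, rO_apply hz, polar_wv, Q_zeta, div_one]
    have e : wv N z - polar (binForm a b) z (1, 0) • wv N (1, 0) = wv N (zflip a b z) := by
      simp [wv, zflip]
      rfl
    rw [e, rO_apply, polar_rv, mlin_apply, hAinv]
    simp [wv]

theorem finrank_MV (N : ℕ) : finrank F (MV F (N + 1)) = 2 * (N + 1) + 2 := by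
  simp [Module.finrank_prod, two_mul]

theorem mlin_cv {χ : Fin (N + 1) → Fˣ} (hχ : ∏ i, χ i = 1) (k : ℕ) (hk : k < 2 * (N + 1)) (t : F)
    (h1 : ∀ h : k < N + 1, (χ ⟨k, h⟩ : F) = t)
    (h2 : ∀ h : N + 1 ≤ k, (((χ ⟨k - (N + 1), by omega⟩)⁻¹ : Fˣ) : F) = t) :
    (mlin (N + 1) a b (mdia χ hχ)).1 (cv N k) = t • cv N k := by
  rw [mdia_apply]
  by_cases h : k < N + 1
  · rw [cv_low h]
    refine Prod.ext (Prod.ext (funext fun i => ?_) (funext fun i => ?_)) ?_
    · by_cases hi : i = ⟨k, h⟩
      · subst hi; simp [h1 h]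
      · simp [hi]
    · simp
    · simp
  · rw [cv_high (by omega) hk]
    refine Prod.ext (Prod.ext (funext fun i => ?_) (funext fun i => ?_)) ?_
    · simp
    · by_cases hi : i = ⟨k - (N + 1), by omega⟩
      · subst hi
        have := h2 (by omega)
        simp only [Units.val_inv_eq_inv_val] at this
        simp [this]
      · simp [hi]
    · simp

theorem mlin_wv {χ : Fin (N + 1) → Fˣ} (hχ : ∏ i, χ i = 1) (z : F × F) :
    (mlin (N + 1) a b (mdia χ hχ)).1 (wv N z) = wv N z := by
  rw [mdia_apply]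
  refine Prod.ext (Prod.ext (funext fun i => ?_) (funext fun i => ?_)) ?_ <;> simp [wv]

variable [Fintype F]

theorem minus_two_gen (hN : 2 ≤ N)
    (hab : ∀ z₁ z₂ : F, z₁ ^ 2 + a * z₁ * z₂ + b * z₂ ^ 2 = 0 → z₁ = 0 ∧ z₂ = 0) :
    ∃ g g' : oG (MQ (N + 1) a b), g ∈ commutator (oG (MQ (N + 1) a b)) ∧
      g' ∈ commutator (oG (MQ (N + 1) a b)) ∧
      commutator (oG (MQ (N + 1) a b)) ≤ Subgroup.closure {g, g'} := by
  classical
  have hQ : (polarBilin (MQ (N + 1) a b)).Nondegenerate := nondeg_hyp (nondeg_binForm hab) _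
  obtain ⟨w, hwc, hwcv, hwwv⟩ := exists_minus_cycle (a := a) (b := b) hN hQ
  -- the points
  set e : MV F (N + 1) := cv N 0 with he
  have hpt : ∀ k, ∃ s : F, s ≠ 0 ∧ pt w e k = s • cv N k := fun k => by
    induction k with
    | zero => exact ⟨1, one_ne_zero, by rw [one_smul]; rfl⟩
    | succ k ih =>
      obtain ⟨s, hs, e1⟩ := ih
      obtain ⟨s', hs', e2⟩ := hwcv k
      exact ⟨s * s', mul_ne_zero hs hs', by rw [pt_succ, e1, map_smul, e2, smul_smul]⟩
  have hptz : ∀ z k, ∃ z', pt w (wv N z) k = wv N z' := fun z k => by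
    induction k with
    | zero => exact ⟨z, rfl⟩
    | succ k ih => obtain ⟨z', e1⟩ := ih; exact ⟨_, by rw [pt_succ, e1, hwwv]⟩
  -- the short parameter
  have hd := disc_ne_zero hab
  obtain ⟨v, hv2, hvp⟩ : ∃ v : F × F, v.2 ≠ 0 ∧ polar (binForm a b) v (1, 0) ≠ 0 := by
    by_cases ha : a = 0
    · refine ⟨(1, 1), one_ne_zero, ?_⟩
      simp only [polar_binForm, ha]
      intro h
      exact hd (by rw [ha]; linear_combination -2 * b * (by linear_combination h : (2 : F) = 0))
    · exact ⟨(0, 1), one_ne_zero, by simpa [polar_binForm] using ha⟩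
  have hv0 : v ≠ 0 := fun h => hv2 (by rw [h]; rfl)
  set u : MV F (N + 1) := wv N v with hu
  have hu1 : pt w u 1 = wv N (zflip a b v) := by rw [pt_succ, pt_zero, hwwv]
  have hu2 : pt w u 2 = u := by rw [pt_succ, hu1, hwwv, zflip_zflip]
  obtain ⟨sN, hsN, hptN⟩ := hpt (N + 1)
  obtain ⟨s2, hs2, hpt2⟩ := hpt (2 * (N + 1))
  have hcv2 : cv (F := F) N (2 * (N + 1)) = e := by rw [← cv_mod, Nat.mod_self]
  have C : Cyc (MQ (N + 1) a b) w e u (N + 1) := by
    refine ⟨by omega, Q_cv 0, fun d hd => ?_, ?_, ⟨s2, hs2, by rw [hpt2, hcv2]⟩, fun d => ?_, hu2, ?_, fun x hx => ?_⟩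
    · obtain ⟨s, -, e1⟩ := hpt d
      rw [e1, polar_smul_right, he, polar_zero_cv, if_neg hd, smul_zero]
    · rw [hptN, polar_smul_right, he, polar_zero_cv, if_pos (Nat.mod_eq_of_lt (by omega))]
      simpa using hsN
    · obtain ⟨s, -, e1⟩ := hpt d
      rw [e1, polar_smul_left, polar_cv_wv, smul_zero]
    · rw [hu, Q_wv]; exact binForm_ne_zero hab hv0
    · set S := Submodule.span F ({x | ∃ d, d % (2 * (N + 1)) ≠ N + 1 ∧ x = pt w e d} ∪ {u, pt w u 1})
      have hc : ∀ d, d % (2 * (N + 1)) ≠ N + 1 → cv N d ∈ S := fun d hd => by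
        obtain ⟨s, hs, e1⟩ := hpt d
        have := S.smul_mem s⁻¹ (Submodule.subset_span (Or.inl ⟨d, hd, rfl⟩) : pt w e d ∈ S)
        rwa [e1, inv_smul_smul₀ hs] at this
      have hx0 : x.1.2 0 = 0 := by
        rw [polar_MQ, he, cv_low (show 0 < N + 1 by omega)] at hx
        simpa [polar, Pi.single_apply] using hx
      have e1 : ((x.1.1, 0), 0) ∈ S := by
        have : (((x.1.1, 0), 0) : MV F (N + 1)) = ∑ i : Fin (N + 1), x.1.1 i • cv N i := by
          have hh : ∀ i : Fin (N + 1), cv (F := F) N i = ((Pi.single i 1, 0), 0) := fun i => cv_low i.isLt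
          refine Prod.ext (Prod.ext (funext fun r => ?_) (funext fun r => ?_)) ?_ <;>
            simp [hh, Prod.fst_sum, Prod.snd_sum, Finset.sum_apply, Pi.single_apply]
        rw [this]
        exact S.sum_mem fun i _ => S.smul_mem _ (hc _ (by rw [Nat.mod_eq_of_lt (by omega)]; omega))
      have e2 : ((0, x.1.2), 0) ∈ S := by
        have : (((0, x.1.2), 0) : MV F (N + 1)) = ∑ i : Fin (N + 1), x.1.2 i • cv N (N + 1 + i) := by
          have hh : ∀ i : Fin (N + 1), cv (F := F) N (N + 1 + i) = ((0, Pi.single i 1), 0) := fun i => by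
            rw [cv_high (by omega) (by omega)]
            simp
          refine Prod.ext (Prod.ext (funext fun r => ?_) (funext fun r => ?_)) ?_ <;>
            simp [hh, Prod.fst_sum, Prod.snd_sum, Finset.sum_apply, Pi.single_apply]
        rw [this]
        refine S.sum_mem fun i _ => ?_
        by_cases hi : i = 0
        · subst hi; rw [hx0, zero_smul]; exact S.zero_mem
        · refine S.smul_mem _ (hc _ ?_)
          have : (i : ℕ) ≠ 0 := fun h => hi (Fin.ext h)
          rw [Nat.mod_eq_of_lt (by omega)]; omega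
      have e3 : wv N x.2 ∈ S := by
        set β := polar (binForm a b) v (1, 0)
        set q := x.2.2 / v.2
        have : wv N x.2 = q • u + ((x.2.1 - q * v.1) / β) • (u - pt w u 1) := by
          rw [hu1, hu]
          refine Prod.ext (Prod.ext (by simp [wv]) (by simp [wv])) (Prod.ext ?_ ?_)
          · simp [wv, zflip, q, β, div_mul_cancel₀ _ hvp]
          · simp [wv, zflip, q, div_mul_cancel₀ _ hv2]
        rw [this]
        exact S.add_mem (S.smul_mem _ (Submodule.subset_span (Or.inr (Or.inl rfl))))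
          (S.smul_mem _ (S.sub_mem (Submodule.subset_span (Or.inr (Or.inl rfl)))
            (Submodule.subset_span (Or.inr (Or.inr rfl)))))
      have : x = ((x.1.1, 0), 0) + ((0, x.1.2), 0) + wv N x.2 :=
        Prod.ext (Prod.ext (by simp [wv]) (by simp [wv])) (by simp [wv])
      rw [this]
      exact S.add_mem (S.add_mem e1 e2) e3
  -- the torus element
  obtain ⟨p, hp⟩ := CharP.exists F
  obtain ⟨γ, hγ⟩ := IsCyclic.exists_generator (α := Fˣ)
  let i1 : Fin (N + 1) := ⟨N - 1, by omega⟩
  let i2 : Fin (N + 1) := Fin.last N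
  set χ : Fin (N + 1) → Fˣ := fun i => Pi.mulSingle (M := fun _ => Fˣ) i1 γ i * Pi.mulSingle (M := fun _ => Fˣ) i2 γ⁻¹ i with hχdef
  have hχ : ∏ i, χ i = 1 := by
    simp only [hχdef]
    rw [Finset.prod_mul_distrib, Finset.prod_pi_mulSingle', Finset.prod_pi_mulSingle']
    simp
  have χ1 : χ i1 = γ := by
    simp [χ, i1, i2, Pi.mulSingle_apply, Fin.ext_iff]; omega
  have χ2 : χ i2 = γ⁻¹ := by
    simp [χ, i1, i2, Pi.mulSingle_apply, Fin.ext_iff]; omega
  have χ0 : ∀ i : Fin (N + 1), (i : ℕ) + 1 < N → χ i = 1 := fun i hi => by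
    have h1 : i ≠ i1 := by simp [i1, Fin.ext_iff]; omega
    have h2 : i ≠ i2 := by simp [i2, Fin.ext_iff]; omega
    simp [χ, h1, h2]
  set h : oG (MQ (N + 1) a b) := mlin (N + 1) a b (mdia χ hχ) with hh
  have hhe : h.1 e = e := by
    rw [hh, he, mlin_cv hχ 0 (by omega) 1 (fun _ => by rw [χ0 _ (by simp; omega)]; rfl) (fun h => by omega),
      one_smul]
  have hhq : h ^ (Fintype.card F - 1) = 1 := by
    rw [hh, ← map_pow]
    convert map_one (mlin (N + 1) a b)
    refine Subtype.ext ?_
    rw [Matrix.SpecialLinearGroup.coe_pow, Matrix.SpecialLinearGroup.coe_one]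
    show (Matrix.diagonal _) ^ _ = _
    rw [Matrix.diagonal_pow, ← Matrix.diagonal_one]
    congr 1
    funext i
    rw [Pi.pow_apply, ← Units.val_pow_eq_pow_val, ← Fintype.card_units, pow_card_eq_one, Units.val_one]
  -- conjugates of the torus element
  have hconj : ∀ j k (t : F), h.1 (cv N k) = t • cv N k →
      (w ^ j * h * (w ^ j)⁻¹).1 (pt w e (j + k)) = t • pt w e (j + k) := fun j k t hk => by
    obtain ⟨s, -, e1⟩ := hpt k
    rw [oG_mul_apply, oG_mul_apply, pt_add, oG_inv_apply, e1, map_smul h.1, hk, smul_comm, map_smul]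
  have hconju : ∀ j, (w ^ j * h * (w ^ j)⁻¹).1 u = u := fun j => by
    have h2j : u = (w ^ j).1 (pt w u j) := by
      rw [← pt_add, show j + j = 2 * j by omega, C.u_even]
    obtain ⟨z, hz⟩ := hptz v j
    rw [h2j, oG_mul_apply, oG_mul_apply, oG_inv_apply, show pt w u j = wv N z from hz, hh, mlin_wv]
  -- the parameter
  let bare : Prop := (2 : F) = 0 ∧ Fintype.card F = 2 ∨ N = 2
  set y : MV F (N + 1) := if bare then u else u + pt w e 1 with hy
  have hey : polar (MQ (N + 1) a b) e y = 0 := by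
    rw [hy]; split_ifs
    · exact C.uperp 0
    · rw [polar_add_right, C.perp 1 (by rw [Nat.mod_eq_of_lt (by omega)]; omega), add_zero]; exact C.uperp 0
  have heu : polar (MQ (N + 1) a b) e u = 0 := C.uperp 0
  set x := sO C.Qe hey with hx
  have hhy : h.1 y = y := by
    rw [hy]; split_ifs with hb
    · rw [hh, hu, mlin_wv]
    · have hN3 : 3 ≤ N := by
        by_contra h'
        exact hb (Or.inr (by omega))
      obtain ⟨s, -, e1⟩ := hpt 1
      rw [map_add, e1, map_smul, hh, hu, mlin_wv,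
        mlin_cv hχ 1 (by omega) 1 (fun _ => by rw [χ0 _ (by simp; omega)]; rfl) (fun h => by omega), one_smul]
  have hcomm : Commute x h := by
    refine (mul_inv_eq_iff_eq_mul.1 ?_).symm
    rw [hx, conj_sO]
    simp only [hhe, hhy]
  have hxp : ∀ k : ℕ, ∃ hk, x ^ k = sO (p := e) (w := (k : F) • y) C.Qe hk := fun k => by
    induction k with
    | zero =>
      refine ⟨by simp [polar], ?_⟩
      rw [pow_zero, sO_congr C.Qe _ (show polar (MQ (N + 1) a b) e (0 : MV F (N + 1)) = 0 by simp [polar]) (by simp), sO_zero]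
    | succ k ih =>
      obtain ⟨hk, e1⟩ := ih
      refine ⟨by rw [polar_smul_right, hey, smul_zero], ?_⟩
      rw [pow_succ, e1, hx, sO_mul]
      exact sO_congr _ _ _ (by push_cast; rw [add_smul, one_smul])
  refine ⟨x * h, w, mul_mem (sO_mem_commutator hQ (Or.inr (by rw [finrank_MV]; omega)) _ _)
    (mlin_mem_commutator (by omega) a b _), hwc, ?_⟩
  set K := Subgroup.closure ({x * h, w} : Set (oG (MQ (N + 1) a b))) with hK
  have hwK : w ∈ K := Subgroup.subset_closure (by simp)
  obtain ⟨hxK, hhK⟩ := SpTwoGen.factors_mem K hcomm (by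
    obtain ⟨hk, e1⟩ := hxp p
    rw [e1, sO_congr C.Qe hk (by simp [polar]) (show (p : F) • y = 0 by rw [CharP.cast_eq_zero, zero_smul]), sO_zero])
    hhq (SpTwoGen.coprime_char p).symm (Subgroup.subset_closure (by simp))
  have hjK : ∀ j, w ^ j * h * (w ^ j)⁻¹ ∈ K := fun j =>
    mul_mem (mul_mem (pow_mem hwK j) hhK) (inv_mem (pow_mem hwK j))
  -- scaling the base point
  have hg1 : (w ^ 1 * h * (w ^ 1)⁻¹).1 e = (γ : F) • e := by
    have := hconj 1 (2 * N + 1) γ (by
      rw [hh]; refine mlin_cv hχ _ (by omega) _ (fun h => by omega) fun _ => ?_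
      rw [show (⟨2 * N + 1 - (N + 1), by omega⟩ : Fin (N + 1)) = i2 from Fin.ext (by simp [i2]; omega), χ2, inv_inv])
    rw [show 1 + (2 * N + 1) = 2 * (N + 1) by omega, hpt2, hcv2, map_smul, smul_comm] at this
    exact smul_right_injective _ hs2 this
  have hu0 : SMem K e u → u ∈ smod K e := fun h1 => by
    refine ⟨C.uperp 0, ?_⟩
    let S : AddSubgroup F :=
      { carrier := {t | SMem K e (t • u)}
        zero_mem' := by show SMem _ _ _; rw [zero_smul]; exact SMem.zero e
        add_mem' := fun {c d} hc hd => by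
          show SMem _ _ _; rw [add_smul]; exact SMem.add hc hd (by rw [polar_smul_right, heu]; simp)
        neg_mem' := fun {c} hc => by show SMem _ _ _; rw [neg_smul]; exact SMem.neg hc }
    refine SpTwoGen.eq_top_of_mul S (show (1 : F) ∈ S by show SMem _ _ _; rwa [one_smul]) one_ne_zero γ hγ
      fun t ht => ?_
    show SMem _ _ _
    have h2 := SMem.conj (hjK 1) ht
    rw [hg1, map_smul, hconju] at h2
    have h3 := h2.of_smul_left γ.ne_zero
    rwa [smul_smul] at h3
  have hbase : u ∈ smod K e ∧ pt w e 1 ∈ smod K e := by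
    by_cases hb : bare
    · have hy' : y = u := by rw [hy, if_pos hb]
      have huM : u ∈ smod K e := hu0 fun hp' hpw => by
        rw [sO_congr hp' hpw hey hy'.symm]; exact hxK
      refine ⟨huM, ?_⟩
      by_cases h2 : (2 : F) = 0
      · refine C.L_of_polar hwK huM (by rw [Nat.mod_eq_of_lt (by omega)]; omega) ?_
        rw [hu1, hu, polar_wv, zflip, polar_sub_right, polar_smul_right, polar_self', smul_eq_mul, h2, zero_mul,
          zero_sub, neg_ne_zero]
        exact mul_ne_zero hvp hvp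
      · obtain rfl : N = 2 := hb.resolve_left fun h => h2 h.1
        have hL2 : pt w e 2 ∈ smod K e := by
          refine C.L_of_polar hwK huM (by norm_num) ?_
          rw [hu2, polar_self']
          exact mul_ne_zero h2 C.Qu
        have := C.L_comp hwK hL2 hL2 (by norm_num) (by norm_num) (by norm_num)
        exact C.L_sub_period hwK (d := 1) (by simpa using this)
    · have hN3 : 3 ≤ N := by
        by_contra h'
        exact hb (Or.inr (by omega))
      have hy' : y = u + pt w e 1 := by rw [hy, if_neg hb]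
      have hyK : SMem K e (u + pt w e 1) := fun hp' hpw => by
        rw [sO_congr hp' hpw hey hy'.symm]; exact hxK
      have hγ1 : (γ : F)⁻¹ ≠ 1 := fun h1 => by
        rw [inv_eq_one, Units.val_eq_one] at h1
        have hsub : ∀ z : Fˣ, z = 1 := fun z => by
          obtain ⟨k, hk⟩ := hγ z
          rw [← hk, h1]; exact _root_.one_zpow k
        have h2' : Fintype.card Fˣ = 1 := Fintype.card_eq_one_iff.2 ⟨1, hsub⟩
        rw [Fintype.card_units] at h2'
        have hc2 : Fintype.card F = 2 := by omega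
        have h2 : (2 : F) = 0 := by
          have := FiniteField.cast_card_eq_zero F
          rw [hc2] at this
          exact_mod_cast this
        exact hb (Or.inl ⟨h2, by omega⟩)
      have hg3e : (w ^ 3 * h * (w ^ 3)⁻¹).1 e = e := by
        have := hconj 3 (2 * N - 1) 1 (by
          rw [hh]; refine mlin_cv hχ _ (by omega) _ (fun h => by omega) fun _ => ?_
          rw [χ0 _ (by simp; omega)]; simp)
        rw [show 3 + (2 * N - 1) = 2 * (N + 1) by omega, hpt2, hcv2, map_smul, one_smul] at this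
        exact smul_right_injective _ hs2 this
      have hg3c : (w ^ 3 * h * (w ^ 3)⁻¹).1 (pt w e 1) = (γ : F)⁻¹ • pt w e 1 := by
        have := hconj 3 (2 * N) ((γ : F)⁻¹) (by
          rw [hh]; refine mlin_cv hχ _ (by omega) _ (fun h => by omega) fun _ => ?_
          rw [show (⟨2 * N - (N + 1), by omega⟩ : Fin (N + 1)) = i1 from Fin.ext (by simp [i1]; omega), χ1,
            Units.val_inv_eq_inv_val])
        rw [show 3 + 2 * N = 1 + 2 * (N + 1) by omega, pt_add, hpt2, hcv2, map_smul] at this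
        rw [show (w ^ 1).1 e = pt w e 1 from rfl, map_smul, smul_comm] at this
        exact smul_right_injective _ hs2 this
      have hc0 : polar (MQ (N + 1) a b) e (pt w e 1) = 0 := C.perp 1 (by rw [Nat.mod_eq_of_lt (by omega)]; omega)
      have hδ : SMem K e (((γ : F)⁻¹ - 1) • pt w e 1) := by
        have h2 := SMem.conj (hjK 3) hyK
        rw [hg3e, map_add, hconju, hg3c] at h2
        have h3 := h2.sub hyK (by rw [polar_add_right, heu, polar_smul_right, hc0]; simp)
        rwa [show u + (γ : F)⁻¹ • pt w e 1 - (u + pt w e 1) = ((γ : F)⁻¹ - 1) • pt w e 1 by module] at h3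
      have hc1 : pt w e 1 ∈ smod K e := by
        refine ⟨hc0, ?_⟩
        let S : AddSubgroup F :=
          { carrier := {t | SMem K e (t • pt w e 1)}
            zero_mem' := by show SMem _ _ _; rw [zero_smul]; exact SMem.zero e
            add_mem' := fun {c d} hc hd => by
              show SMem _ _ _; rw [add_smul]; exact SMem.add hc hd (by rw [polar_smul_right, hc0, smul_zero])
            neg_mem' := fun {c} hc => by show SMem _ _ _; rw [neg_smul]; exact SMem.neg hc }
        have hgen : ∀ z : Fˣ, z ∈ Subgroup.zpowers γ⁻¹ := fun z => by rw [Subgroup.zpowers_inv]; exact hγ z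
        refine SpTwoGen.eq_top_of_mul S (show ((γ : F)⁻¹ - 1) ∈ S from hδ) (sub_ne_zero.2 hγ1) γ⁻¹ hgen
          fun t ht => ?_
        show SMem _ _ _
        have h2 := SMem.conj (hjK 3) ht
        rw [hg3e, map_smul, hg3c, smul_smul, mul_comm] at h2
        rwa [Units.val_inv_eq_inv_val]
      refine ⟨hu0 ?_, hc1⟩
      have := hyK.sub (hc1.2 1) (by rw [polar_add_right, heu, hc0]; simp)
      rwa [one_smul, add_sub_cancel_right] at this
  exact (commutator_le_eo hQ (by rw [finrank_MV]; omega)).trans (C.eo_le hwK hbase.1 hQ hbase.2)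

/-- Two generation passes along an isomorphism. -/
theorem two_gen_transport {A B : Type*} [Group A] [Group B] (φ : A ≃* B)
    (h : ∃ g g' : A, Subgroup.closure ({g, g'} : Set A) = ⊤) :
    ∃ g g' : B, Subgroup.closure ({g, g'} : Set B) = ⊤ := by
  obtain ⟨g, g', h⟩ := h
  refine ⟨φ g, φ g', ?_⟩
  have := congrArg (Subgroup.map φ.toMonoidHom) h
  rw [MonoidHom.map_closure, Set.image_pair, Subgroup.map_top_of_surjective _ φ.surjective] at this
  exact this

end Cfsg.Agent.OmegaTwoGen
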