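import Cfsg.Agent.Chev.Ortho.SplitOdd
import Cfsg.Agent.OmegaTwoGen.Common

/-!
The group `Ω(2m+1, q)`, `q` odd and `m ≥ 2`, is generated by two elements: a short root element times a torus
element, and a monomial element cycling all short root subgroups.
-/

set_option autoImplicit false
set_option maxHeartbeats 1000000
set_option linter.unusedSectionVars false
set_option linter.unusedSimpArgs false

open Matrix
open scoped commutatorElement

namespace Cfsg.Agent.OmegaTwoGen

open Chev.Ortho (Ok bar lev OG el bar_bar bar_ne bar_inj lev_bar dL dL_spec tl dg el_apply el_mul tl_mul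
  tl_sq_mem swp swp_bar el_mem)
open Chev.Ortho.Odd (OB sh act act_mul act_one ext_act sh_apply sh_mul sh_inl sh_inr emb hy)

universe u

variable {F : Type u} [Field F] {m : ℕ}

/-- A monomial element of the odd orthogonal group with signs. -/
def SMono (g : OB F m) (τ : Equiv.Perm (Fin m ⊕ Fin m)) (ε : Fin m ⊕ Fin m → F) (ε0 : F) : Prop :=
  (∀ i, τ (bar i) = bar (τ i)) ∧ (∀ i, ε i * ε (bar i) = 1) ∧ ε0 * ε0 = 1 ∧
    ∀ x, (act g x (.inl ()) = ε0 * x (.inl ())) ∧ ∀ i, act g x (.inr (τ i)) = ε i * x (.inr i)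

theorem SMono.mul {g g' : OB F m} {τ τ' : Equiv.Perm (Fin m ⊕ Fin m)} {ε ε' : Fin m ⊕ Fin m → F} {e e' : F}
    (h : SMono g τ ε e) (h' : SMono g' τ' ε' e') :
    SMono (g * g') (τ * τ') (fun i => ε (τ' i) * ε' i) (e * e') := by
  obtain ⟨a1, a2, a3, a4⟩ := h
  obtain ⟨b1, b2, b3, b4⟩ := h'
  refine ⟨fun i => by simp only [Equiv.Perm.mul_apply, b1, a1], fun i => ?_, ?_, fun x => ⟨?_, fun i => ?_⟩⟩
  · simp only [b1]
    linear_combination (ε' i * ε' (bar i)) * a2 (τ' i) + b2 i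
  · linear_combination (e' * e') * a3 + b3
  · rw [act_mul, (a4 _).1, (b4 x).1, mul_assoc]
  · rw [act_mul, Equiv.Perm.mul_apply, (a4 _).2, (b4 x).2, mul_assoc]

theorem SMono.conj_sh {g : OB F m} {τ : Equiv.Perm (Fin m ⊕ Fin m)} {ε : Fin m ⊕ Fin m → F} {e : F}
    (h : SMono g τ ε e) (a : Fin m ⊕ Fin m) (t : F) :
    g * sh a t * g⁻¹ = sh (τ a) (e * ε a * t) := by
  obtain ⟨a1, a2, a3, a4⟩ := h
  rw [mul_inv_eq_iff_eq_mul]
  refine ext_act fun x => funext fun r => ?_
  rcases r with ⟨⟨⟩⟩ | r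
  · rw [act_mul, act_mul, (a4 _).1, sh_inl, sh_inl, (a4 _).1, ← a1, (a4 _).2]
    linear_combination (-(e * t * x (.inr (bar a)))) * a2 a
  · obtain ⟨i, rfl⟩ := τ.surjective r
    rw [act_mul, act_mul, (a4 _).2]
    by_cases hi : i = a
    · subst hi
      rw [sh_apply, sh_apply, if_neg (by simp), if_pos rfl, if_neg (by simp), if_pos rfl, (a4 _).1,
        ← a1 i, (a4 _).2 (bar i), (a4 _).2 i]
      linear_combination (2 * t * ε i * x (.inl ()) + e * e * t ^ 2 * ε i * x (.inr (bar i))) * (0 : F) +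
        (2 * t * ε i * x (.inl ())) * a3 + (e * e * t ^ 2 * ε i * x (.inr (bar i))) * a2 i +
        (t ^ 2 * ε i * x (.inr (bar i))) * a3
    · rw [sh_inr _ _ _ hi, sh_inr _ _ _ (τ.injective.ne hi), (a4 _).2]

/-- The short Weyl element of a level. -/
def shW (L : Fin m ⊕ Fin m) : OB F m := sh L 1 * sh (bar L) 1 * sh L 1

theorem shW_mono (L : Fin m ⊕ Fin m) :
    SMono (shW (F := F) L) (swp L) (fun i => if i = L ∨ i = bar L then -1 else 1) (-1) := by
  refine ⟨swp_bar L, fun i => ?_, by ring, fun x => ⟨?_, fun i => ?_⟩⟩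
  · show (if i = L ∨ i = bar L then (-1 : F) else 1) * (if bar i = L ∨ bar i = bar L then (-1 : F) else 1) = 1
    by_cases h : i = L ∨ i = bar L
    · rw [if_pos h, if_pos (by rcases h with rfl | rfl <;> simp [bar_bar])]; ring
    · rw [if_neg h, if_neg (by
        rintro (e | e)
        · exact h (Or.inr (by rw [← e, bar_bar]))
        · exact h (Or.inl (bar_inj e)))]
      ring
  · simp only [shW, act_mul, sh_apply, bar_bar, bar_ne, (bar_ne L).symm, Sum.inr.injEq, reduceCtorEq,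
      if_true, if_false]
    ring
  · by_cases h1 : i = L
    · subst h1
      simp only [shW, act_mul, sh_apply, bar_bar, bar_ne, (bar_ne i).symm, Sum.inr.injEq, reduceCtorEq,
        if_true, if_false, swp, Equiv.swap_apply_left, true_or]
      ring
    by_cases h2 : i = bar L
    · subst h2
      simp only [shW, act_mul, sh_apply, bar_bar, bar_ne, (bar_ne L).symm, Sum.inr.injEq, reduceCtorEq,
        if_true, if_false, swp, Equiv.swap_apply_right, or_true]
      ring
    simp only [shW, act_mul, sh_apply, bar_bar, Sum.inr.injEq, reduceCtorEq, if_true, if_false, swp,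
      Equiv.swap_apply_of_ne_of_ne h1 h2, h1, h2, or_self]
    ring

/-- The long Weyl element of a pair of levels. -/
def lgW {i j : Fin m} (h1 : Ok (Sum.inl i : Fin m ⊕ Fin m) (Sum.inr j))
    (h2 : Ok (Sum.inl j : Fin m ⊕ Fin m) (Sum.inr i)) : OB F m :=
  emb (el h1 1 * el h2 (-1) * el h1 1)

theorem lgW_mono {i j : Fin m} (hij : i ≠ j) (h1 : Ok (Sum.inl i : Fin m ⊕ Fin m) (Sum.inr j))
    (h2 : Ok (Sum.inl j : Fin m ⊕ Fin m) (Sum.inr i)) :
    SMono (lgW (F := F) h1 h2) (Equiv.sumCongr (Equiv.swap i j) (Equiv.swap i j))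
      (Sum.elim (fun r => if r = i then -1 else 1) (fun r => if r = i then -1 else 1)) 1 := by
  refine ⟨fun r => by rcases r with r | r <;> rfl, fun r => ?_, one_mul 1, fun x => ⟨?_, fun r => ?_⟩⟩
  · rcases r with r | r <;> simp [bar] <;> split_ifs <;> ring
  · rw [one_mul]; exact Chev.Ortho.Odd.emb_inl _ x
  · have key := congrFun (Chev.Ortho.Odd.hy_emb (el h1 1 * el h2 (-1) * el h1 1) x)
    simp only [hy] at key
    rw [lgW, key]
    simp only [Chev.Ortho.act_mul, el_apply]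
    rcases r with r | r <;> by_cases hri : r = i <;> by_cases hrj : r = j <;>
      simp_all [hy, bar, Equiv.swap_apply_of_ne_of_ne, hij.symm]

theorem shW_mem (L : Fin m ⊕ Fin m) : shW (F := F) L ∈ Chev.Ortho.Odd.E F m 0 :=
  mul_mem (mul_mem (Chev.Ortho.Odd.sh_mem (by omega) _) (Chev.Ortho.Odd.sh_mem (by omega) _))
    (Chev.Ortho.Odd.sh_mem (by omega) _)

/-- The signed cycle. -/
theorem exists_odd_cycle (hm : 2 ≤ m) : ∃ (g : OB F m) (τ : Equiv.Perm (Fin m ⊕ Fin m))
    (ε : Fin m ⊕ Fin m → F) (e : F), g ∈ Chev.Ortho.Odd.E F m 0 ∧ SMono g τ ε e ∧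
      (∀ i : Fin m, ∀ h : (i : ℕ) + 1 < m, τ (.inl i) = .inl ⟨i + 1, h⟩) ∧
      τ (.inl ⟨m - 1, by omega⟩) = .inr ⟨0, by omega⟩ := by
  have key : ∀ k, (hk : k < m) → ∃ (g : OB F m) (τ : Equiv.Perm (Fin m ⊕ Fin m))
      (ε : Fin m ⊕ Fin m → F) (e : F), g ∈ Chev.Ortho.Odd.E F m 0 ∧ SMono g τ ε e ∧
      (∀ i : Fin m, ∀ h : (i : ℕ) + 1 < m, (i : ℕ) < k → τ (.inl i) = .inl ⟨i + 1, h⟩) ∧
      τ (.inl ⟨k, hk⟩) = .inl ⟨0, by omega⟩ ∧ ∀ i : Fin m, k < (i : ℕ) → τ (.inl i) = .inl i := by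
    intro k
    induction k with
    | zero =>
      intro hk
      refine ⟨1, 1, fun _ => 1, 1, one_mem _, ⟨fun i => rfl, fun i => one_mul _, one_mul _, fun x =>
        ⟨by rw [act_one, one_mul], fun i => by rw [act_one, one_mul]; rfl⟩⟩,
        fun i h hi => absurd hi (by omega), rfl, fun i _ => rfl⟩
    | succ k ih =>
      intro hk
      obtain ⟨g, τ, ε, e, hg, hmono, hlow, hmid, hhigh⟩ := ih (by omega)
      set i : Fin m := ⟨k, by omega⟩ with hi
      set j : Fin m := ⟨k + 1, hk⟩ with hj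
      have hij : i ≠ j := Fin.ne_of_val_ne (by simp [hi, hj])
      have h1 : Ok (Sum.inl i : Fin m ⊕ Fin m) (Sum.inr j) :=
        CurtisTitsD.ok_of_lev (fun e => hij (Fin.ext e))
      have h2 : Ok (Sum.inl j : Fin m ⊕ Fin m) (Sum.inr i) :=
        CurtisTitsD.ok_of_lev (fun e => hij (Fin.ext e.symm))
      refine ⟨g * lgW h1 h2, τ * _, _, _, mul_mem hg (Chev.Ortho.Odd.emb_mem
          (mul_mem (mul_mem (el_mem _ _ (by omega) (by omega)) (el_mem _ _ (by omega) (by omega)))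
            (el_mem _ _ (by omega) (by omega)))),
        hmono.mul (lgW_mono hij h1 h2), fun r hr hrk => ?_, ?_, fun r hr => ?_⟩
      · rw [Equiv.Perm.mul_apply]
        by_cases hrk' : (r : ℕ) = k
        · obtain rfl : r = i := Fin.ext hrk'
          simp only [Equiv.sumCongr_apply, Sum.map_inl, Equiv.swap_apply_left]
          exact hhigh j (by simp [hj])
        · simp only [Equiv.sumCongr_apply, Sum.map_inl]
          rw [Equiv.swap_apply_of_ne_of_ne (fun e => hrk' (by rw [e])) (fun e => by rw [e] at hrk; simp [hj] at hrk)]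
          exact hlow r hr (by omega)
      · rw [Equiv.Perm.mul_apply]
        simp only [Equiv.sumCongr_apply, Sum.map_inl]
        rw [Equiv.swap_apply_right]
        exact hmid
      · rw [Equiv.Perm.mul_apply]
        simp only [Equiv.sumCongr_apply, Sum.map_inl]
        rw [Equiv.swap_apply_of_ne_of_ne (fun e => by rw [e] at hr; simp [hi] at hr)
          (fun e => by rw [e] at hr; simp [hj] at hr)]
        exact hhigh r (by omega)
  obtain ⟨g, τ, ε, e, hg, hmono, hlow, hmid, -⟩ := key (m - 1) (by omega)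
  set L : Fin m ⊕ Fin m := .inl ⟨m - 1, by omega⟩ with hL
  refine ⟨g * shW L, τ * swp L, _, _, mul_mem hg (shW_mem L), hmono.mul (shW_mono L), fun i h => ?_, ?_⟩
  · rw [Equiv.Perm.mul_apply, swp, Equiv.swap_apply_of_ne_of_ne ?_ (by simp [hL, bar])]
    · exact hlow i h (by omega)
    · simp [hL, Fin.ext_iff]; omega
  · rw [Equiv.Perm.mul_apply, swp, Equiv.swap_apply_left, hmono.1, hmid]
    rfl

theorem sh_sh {a b : Fin m ⊕ Fin m} (h : Ok a b) (t u : F) :
    sh a t * sh b u = emb (el h (-2 * t * u)) * (sh b u * sh a t) := by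
  have h1 : bar b ≠ a := fun e => h.2 (by rw [← e, bar_bar])
  have h2 : bar a ≠ b := h.2.symm
  have h3 : bar a ≠ bar b := fun e => h.1 (bar_inj e)
  refine ext_act fun x => funext fun r => ?_
  rcases r with ⟨⟨⟩⟩ | r
  · simp only [act_mul, Chev.Ortho.Odd.emb_inl, sh_apply, Sum.inr.injEq, reduceCtorEq, if_true, if_false,
      h1, h2, h.1, h.1.symm, bar_ne]
    ring
  · have key : ∀ y, act (emb (el h (-2 * t * u))) y (.inr r) = Chev.Ortho.act (el h (-2 * t * u)) (hy y) r :=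
      fun y => congrFun (Chev.Ortho.Odd.hy_emb _ y) r
    rw [act_mul, act_mul, key, el_apply]
    simp only [hy, act_mul, sh_apply, Sum.inr.injEq, reduceCtorEq, if_true, if_false, h1, h2, h3, h3.symm,
      h.1, h.1.symm, bar_ne]
    by_cases ha : r = a
    · subst ha; simp [h.1]; ring
    by_cases hb : r = b
    · subst hb; simp [ha]; ring
    simp [ha, hb]

theorem sh_zero (a : Fin m ⊕ Fin m) : sh a (0 : F) = 1 := by
  have := sh_mul a (0 : F) 0
  rw [add_zero] at this
  exact mul_eq_left.1 this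

theorem sh_pow (a : Fin m ⊕ Fin m) (t : F) : ∀ k : ℕ, sh a t ^ k = sh a ((k : F) * t)
  | 0 => by rw [pow_zero, Nat.cast_zero, zero_mul, sh_zero]
  | k + 1 => by rw [pow_succ, sh_pow a t k, sh_mul]; congr 1; push_cast; ring

variable [Fintype F]

theorem odd_two_gen (hm : 2 ≤ m) (h2 : (2 : F) ≠ 0) :
    ∃ a b : OB F m, a ∈ commutator (OB F m) ∧ b ∈ commutator (OB F m) ∧
      commutator (OB F m) ≤ Subgroup.closure {a, b} := by
  classical
  have hF : ∃ a : F, a ≠ 0 ∧ a ≠ 1 := ⟨2, h2, fun e => one_ne_zero (by linear_combination e)⟩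
  rw [Chev.Ortho.Odd.commutator_eq hm hF]
  obtain ⟨p, hp⟩ := CharP.exists F
  obtain ⟨γ, hγ⟩ := IsCyclic.exists_generator (α := Fˣ)
  obtain ⟨w, τ, ε, e, hwE, hmono, hlow, htop⟩ := exists_odd_cycle (F := F) hm
  let z : Fin m := ⟨0, by omega⟩
  let L : Fin m ⊕ Fin m := .inr ⟨m - 1, by omega⟩
  have hL0 : L ≠ .inl z ∧ bar L ≠ .inl z := ⟨by simp [L], by simp [L, z, bar, Fin.ext_iff]; omega⟩
  set h : OB F m := emb (tl L (γ * γ)) with hh
  have hscale : ∀ a t, h * sh a t * h⁻¹ = sh a (t * dL L (γ * γ) a) := fun a t => by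
    rw [hh, tl, Chev.Ortho.Odd.sh_dg_conj, mul_inv_cancel_right]
  refine ⟨sh (.inl z) 1 * h, w, mul_mem (Chev.Ortho.Odd.sh_mem (by omega) _) (Chev.Ortho.Odd.emb_mem
    (tl_sq_mem (J := .inl z) (by simp [L, z, lev]; omega) γ)), hwE, ?_⟩
  set K := Subgroup.closure ({sh (.inl z) (1 : F) * h, w} : Set (OB F m)) with hK
  have hwK : w ∈ K := Subgroup.subset_closure (by simp)
  have hcomm : Commute (sh (.inl z) (1 : F)) h := by
    have := hscale (.inl z) 1
    rw [show dL L (γ * γ) (.inl z) = (1 : F) by simp [dL, hL0.1.symm, hL0.2.symm], mul_one,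
      mul_inv_eq_iff_eq_mul] at this
    exact this.symm
  have hhq : h ^ (Fintype.card F - 1) = 1 := by
    have hk : ∀ (c : Fˣ) (k : ℕ), (tl L c : OG F m) ^ k = tl L (c ^ k) := fun c k => by
      induction k with
      | zero =>
        rw [pow_zero, pow_zero]
        refine (Chev.Ortho.ext_act fun x => funext fun i => ?_).symm
        simp [tl, Chev.Ortho.dg_apply, dL, Chev.Ortho.act_one]
      | succ k ih => rw [pow_succ, ih, tl_mul, pow_succ]
    rw [hh, ← map_pow, hk, ← Fintype.card_units, pow_card_eq_one]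
    have h1 : (tl L (1 : Fˣ) : OG F m) = 1 := by simpa using (hk 1 0).symm
    rw [h1, map_one]
  obtain ⟨hx, hhK⟩ := SpTwoGen.factors_mem K hcomm
    (by rw [sh_pow, CharP.cast_eq_zero, zero_mul, sh_zero]) hhq (SpTwoGen.coprime_char p).symm
    (Subgroup.subset_closure (by simp))
  -- the whole first short root subgroup
  let S : AddSubgroup F :=
    { carrier := {t | sh (.inl z) t ∈ K}
      zero_mem' := by show sh _ _ ∈ K; rw [sh_zero]; exact one_mem K
      add_mem' := fun {a b} ha hb => by show sh _ _ ∈ K; rw [← sh_mul]; exact mul_mem ha hb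
      neg_mem' := fun {a} ha => by
        show sh _ _ ∈ K
        rw [show sh (.inl z) (-a) = (sh (.inl z) a)⁻¹ from (inv_eq_of_mul_eq_one_right (by
          rw [sh_mul, add_neg_cancel, sh_zero])).symm]
        exact inv_mem ha }
  have hne : ∀ a, e * ε a ≠ 0 := fun a => by
    obtain ⟨-, a2, a3, -⟩ := id hmono
    refine mul_ne_zero (fun h => ?_) fun h => ?_
    · rw [h, zero_mul] at a3; exact zero_ne_one a3
    · have := a2 a; rw [h, zero_mul] at this; exact zero_ne_one this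
  have hτ : ∀ a t, w * sh a (t / (e * ε a)) * w⁻¹ = sh (τ a) t := fun a t => by
    rw [hmono.conj_sh, mul_div_cancel₀ _ (hne a)]
  have hτL : τ L = .inl z := by
    have := hmono.1 (.inl ⟨m - 1, by omega⟩)
    rw [htop] at this
    exact this
  have hhw : ∀ t, w * h * w⁻¹ * sh (.inl z) t * (w * h * w⁻¹)⁻¹ = sh (.inl z) ((γ : F) ^ 2 * t) := by
    intro t
    rw [← hτL, ← hτ L t, show w * h * w⁻¹ * (w * sh L (t / (e * ε L)) * w⁻¹) * (w * h * w⁻¹)⁻¹ =
      w * (h * sh L (t / (e * ε L)) * h⁻¹) * w⁻¹ by group, hscale, hmono.conj_sh,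
      show dL L (γ * γ) L = (γ : F) ^ 2 by simp [dL, pow_two]]
    congr 1
    rw [← mul_assoc, mul_div_cancel₀ _ (hne L), mul_comm]
  have hall0 : ∀ t, sh (.inl z) t ∈ K := SpTwoGen.eq_top_of_sq S hx γ hγ fun t ht => by
    show sh _ _ ∈ K
    rw [← hhw]
    have hm' : w * h * w⁻¹ ∈ K := mul_mem (mul_mem hwK hhK) (inv_mem hwK)
    exact mul_mem (mul_mem hm' ht) (inv_mem hm')
  -- every short root subgroup
  have hstep : ∀ a, (∀ t, sh a t ∈ K) → ∀ t, sh (τ a) t ∈ K := fun a ha t => by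
    rw [← hτ a t]; exact mul_mem (mul_mem hwK (ha _)) (inv_mem hwK)
  have hinl : ∀ k (hk : k < m) t, sh (.inl ⟨k, hk⟩) t ∈ K := by
    intro k
    induction k with
    | zero => exact fun _ => hall0
    | succ k ih => intro hk t; rw [← hlow ⟨k, by omega⟩ hk]; exact hstep _ (ih (by omega)) t
  have hinr : ∀ k (hk : k < m) t, sh (.inr ⟨k, hk⟩) t ∈ K := by
    intro k
    induction k with
    | zero => intro _ t; rw [← htop]; exact hstep _ (hinl _ _) t
    | succ k ih =>
      intro hk t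
      have h1 := hmono.1 (.inl ⟨k, by omega⟩)
      rw [hlow ⟨k, by omega⟩ hk] at h1
      have h2' : τ (.inr ⟨k, by omega⟩) = .inr ⟨k + 1, hk⟩ := h1
      rw [← h2']; exact hstep _ (ih (by omega)) t
  have hsh : ∀ a t, sh a t ∈ K := fun a t => by
    rcases a with ⟨i, hi⟩ | ⟨i, hi⟩
    exacts [hinl i hi t, hinr i hi t]
  refine sup_le ?_ ((Subgroup.closure_le _).2 ?_)
  · rw [Chev.Ortho.E, MonoidHom.map_closure, Subgroup.closure_le]
    rintro _ ⟨_, ⟨a, b, ho, t, -, -, rfl⟩, rfl⟩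
    have e1 := sh_sh ho (1 : F) (-t / 2)
    rw [show -2 * (1 : F) * (-t / 2) = t by field_simp] at e1
    rw [SetLike.mem_coe, eq_mul_inv_of_mul_eq e1.symm]
    exact mul_mem (mul_mem (hsh _ _) (hsh _ _)) (inv_mem (mul_mem (hsh _ _) (hsh _ _)))
  · rintro _ ⟨a, t, -, rfl⟩
    exact hsh a t

end Cfsg.Agent.OmegaTwoGen
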