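import Cfsg.Agent.Classical.OrthEichler

/-!
Subgroups of an orthogonal group stable under a cyclic monomial element: Siegel transformations at the
points of the cycle and a criterion for containing all Siegel transformations.
-/

set_option autoImplicit false
set_option linter.unusedSectionVars false

namespace Cfsg.Agent.OmegaTwoGen

open Module QuadraticMap Classical.Quad

universe u v

variable {F : Type u} {V : Type v} [Field F] [AddCommGroup V] [Module F V] {Q : QuadraticForm F V}
  {K : Subgroup (oG Q)}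

/-- The Siegel transformation with the given data, if defined, is in the subgroup. -/
def SMem (K : Subgroup (oG Q)) (p w : V) : Prop :=
  ∀ (hp : Q p = 0) (hpw : polar Q p w = 0), sO hp hpw ∈ K

theorem SMem.conj {g : oG Q} (hg : g ∈ K) {p w : V} (h : SMem K p w) : SMem K (g.1 p) (g.1 w) := by
  intro hp hpw
  have hp' : Q p = 0 := by rw [← g.2 p]; exact hp
  have hpw' : polar Q p w = 0 := by rw [← polar_oG g]; exact hpw
  have e := conj_sO g hp' hpw'
  rw [← e]
  exact mul_mem (mul_mem hg (h hp' hpw')) (inv_mem hg)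

theorem SMem.add {p w w' : V} (h : SMem K p w) (h' : SMem K p w') (hw : polar Q p w = 0) :
    SMem K p (w + w') := by
  intro hp hpw
  have hw' : polar Q p w' = 0 := by rwa [polar_add_right, hw, zero_add] at hpw
  rw [← sO_congr hp (polar_perp_add hw hw') hpw rfl, ← sO_mul hp hw hw']
  exact mul_mem (h hp hw) (h' hp hw')

theorem SMem.neg {p w : V} (h : SMem K p w) : SMem K p (-w) := by
  intro hp hpw
  have hw : polar Q p w = 0 := by rwa [polar_neg_right, neg_eq_zero] at hpw
  rw [← sO_congr hp (polar_perp_neg hw) hpw rfl, ← sO_inv hp hw]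
  exact inv_mem (h hp hw)

theorem SMem.sub {p w w' : V} (h : SMem K p w) (h' : SMem K p w') (hw : polar Q p w = 0) :
    SMem K p (w - w') := sub_eq_add_neg w w' ▸ h.add h'.neg hw

theorem SMem.zero (p : V) : SMem K p 0 := fun hp hpw => by rw [sO_zero hp hpw]; exact one_mem K

theorem SMem.smul_left {p w : V} {c : F} (hc : c ≠ 0) (h : SMem K p (c • w)) : SMem K (c • p) w := by
  intro hp hpw
  have hp' : Q p = 0 := by
    rw [Classical.Quad.map_smul'] at hp; exact (mul_eq_zero.1 hp).resolve_left (mul_ne_zero hc hc)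
  have hpw' : polar Q p w = 0 := by
    rw [polar_smul_left, smul_eq_mul] at hpw; exact (mul_eq_zero.1 hpw).resolve_left hc
  rw [sO_smul_left hp' hpw' c hp hpw]
  exact h hp' _

theorem SMem.of_smul_left {p w : V} {c : F} (hc : c ≠ 0) (h : SMem K (c • p) w) : SMem K p (c • w) := by
  intro hp hpw
  have hpw' : polar Q p w = 0 := by
    rw [polar_smul_right, smul_eq_mul] at hpw; exact (mul_eq_zero.1 hpw).resolve_left hc
  rw [← sO_smul_left hp hpw' c (by rw [Classical.Quad.map_smul', hp, mul_zero])
    (by rw [polar_smul_left, hpw', smul_zero])]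
  exact h _ _

theorem SMem.swap {p r : V} (hp0 : Q p = 0) (hr0 : Q r = 0) (h : SMem K p r) (hpr : polar Q p r = 0) :
    SMem K r (-p) := by
  intro hr hrp
  have e : sO hr hrp = sO hp0 hpr := ext_oG fun x => by
    simp only [sO_apply, polar_neg_right, QuadraticMap.map_neg, hp0, hr0]
    match_scalars <;> ring
  rw [e]
  exact h hp0 hpr

/-- A Siegel transformation fixing the point moves parameters. -/
theorem SMem.move {g : oG Q} (hg : g ∈ K) {p v : V} (hgp : g.1 p = p) (h : SMem K p v)
    (hpv : polar Q p v = 0) : SMem K p (g.1 v - v) := by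
  have h1 : SMem K p (g.1 v) := by
    have := h.conj hg
    rwa [hgp] at this
  exact h1.sub h (by rw [← hgp, polar_oG]; exact hpv)

/-- Containing all Siegel transformations at two opposite points suffices. -/
theorem eo_le_of_pair (hQ : (polarBilin Q).Nondegenerate) {e f : V} (he : Q e = 0) (hf : Q f = 0)
    (hef : polar Q e f = 1) (h1 : ∀ x, SMem K e x) (h2 : ∀ x, SMem K f x) : eo Q ≤ K := by
  classical
  have fe : polar Q f e = 1 := by rw [polar_comm]; exact hef
  -- points not orthogonal to one of the pair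
  have near : ∀ e f : V, Q e = 0 → Q f = 0 → polar Q e f = 1 → (∀ x, SMem K e x) → (∀ x, SMem K f x) →
      ∀ p, Q p = 0 → polar Q e p ≠ 0 → ∀ w, SMem K p w := by
    intro e f he hf hef h1 h2 p hp hep w
    set t := polar Q e p with ht
    have hp' : Q (t⁻¹ • p) = 0 := by rw [Classical.Quad.map_smul', hp, mul_zero]
    obtain ⟨h, -, hg⟩ := sO_partner he hf hef hp'
      (by rw [polar_smul_right, smul_eq_mul, inv_mul_cancel₀ hep])
    have hgK := h1 _ he h
    set g := sO he h
    have h3 : SMem K (t⁻¹ • p) (g.1 ((g⁻¹).1 (t • w))) := by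
      rw [← hg]; exact (h2 _).conj hgK
    rw [oG_apply_inv] at h3
    have h4 := h3.of_smul_left (inv_ne_zero hep)
    rwa [inv_smul_smul₀ hep] at h4
  refine (Subgroup.closure_le _).2 ?_
  rintro _ ⟨p, w, hp, hpw, rfl⟩
  suffices SMem K p w from this hp hpw
  by_cases hep : polar Q e p = 0
  swap
  · exact near e f he hf hef h1 h2 p hp hep w
  by_cases hfp : polar Q f p = 0
  swap
  · exact near f e hf he fe h2 h1 p hp hfp w
  by_cases hp0 : p = 0
  · intro hp hpw
    have e' : sO hp hpw = 1 := ext_oG fun x => by rw [sO_apply, oG_one_apply, hp0]; simp [polar]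
    rw [e']; exact one_mem K
  obtain ⟨z, hpz⟩ : ∃ z, polar Q p z ≠ 0 := by
    by_contra h
    push Not at h
    exact hp0 (eq_zero_of_polar hQ h)
  set u := z - polar Q e z • f - polar Q f z • e with hu
  have hfu : polar Q f u = 0 := by
    simp only [hu, polar_sub_right, polar_smul_right, smul_eq_mul, polar_self', hf, fe]; ring
  have hpu : polar Q p u ≠ 0 := by
    simp only [hu, polar_sub_right, polar_smul_right, smul_eq_mul, polar_comm Q p e, polar_comm Q p f,
      hep, hfp, mul_zero, sub_zero]
    exact hpz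
  have hgK := h2 u hf hfu
  set g := sO hf hfu with hg
  have hgp : g.1 p = p + polar Q p u • f := by
    rw [hg, sO_apply, polar_comm Q p f, hfp]; simp
  have key := near e f he hf hef h1 h2 (g.1 p) (by rw [g.2]; exact hp)
    (by rw [hgp, polar_add_right, polar_smul_right, hep, hef, smul_eq_mul, mul_one, zero_add]; exact hpu) (g.1 w)
  have h5 := key.conj (inv_mem hgK)
  rwa [oG_inv_apply, oG_inv_apply] at h5

/-- The points of a cycle. -/
def pt (w : oG Q) (e : V) (k : ℕ) : V := (w ^ k).1 e

theorem pt_zero (w : oG Q) (e : V) : pt w e 0 = e := rfl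

theorem pt_add (w : oG Q) (e : V) (i j : ℕ) : pt w e (i + j) = (w ^ i).1 (pt w e j) := by
  rw [pt, pow_add]; rfl

theorem pt_succ (w : oG Q) (e : V) (k : ℕ) : pt w e (k + 1) = w.1 (pt w e k) := by
  rw [pt, pow_succ']; rfl

/-- A cycle of `2n` points with a vector of period two orthogonal to all of them. -/
structure Cyc (Q : QuadraticForm F V) (w : oG Q) (e u : V) (n : ℕ) : Prop where
  three : 3 ≤ n
  Qe : Q e = 0
  perp : ∀ d, d % (2 * n) ≠ n → polar Q e (pt w e d) = 0
  pair : polar Q e (pt w e n) ≠ 0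
  per : ∃ s : F, s ≠ 0 ∧ pt w e (2 * n) = s • e
  uperp : ∀ d, polar Q (pt w e d) u = 0
  uper : pt w u 2 = u
  Qu : Q u ≠ 0
  span : ∀ x, polar Q e x = 0 → x ∈ Submodule.span F
    ({x | ∃ d, d % (2 * n) ≠ n ∧ x = pt w e d} ∪ {u, pt w u 1})

section

variable {w : oG Q} {e u : V} {n : ℕ} (C : Cyc Q w e u n) (hw : w ∈ K)

include C

theorem Cyc.Qpt (k : ℕ) : Q (pt w e k) = 0 := by rw [pt, (w ^ k).2]; exact C.Qe

theorem Cyc.perp' (i d : ℕ) (hd : d % (2 * n) ≠ n) : polar Q (pt w e i) (pt w e (i + d)) = 0 := by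
  rw [pt_add, pt, polar_oG]; exact C.perp d hd

theorem Cyc.pair' (i : ℕ) : polar Q (pt w e i) (pt w e (i + n)) ≠ 0 := by
  rw [pt_add, pt, polar_oG]; exact C.pair

theorem Cyc.uper' : ∀ k, pt w u (k + 2) = pt w u k := fun k => by rw [pt_add, C.uper]; rfl

theorem Cyc.u_even (i : ℕ) : pt w u (2 * i) = u := by
  induction i with
  | zero => rfl
  | succ i ih => rw [Nat.mul_succ, C.uper', ih]

theorem Cyc.upt_perp (i k : ℕ) : polar Q (pt w e i) (pt w u k) = 0 := by
  -- move past the exponent of the short parameter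
  obtain ⟨s, hs, hper⟩ := C.per
  have h2 : pt w e (2 * n * k + i) = s ^ k • pt w e i := by
    induction k with
    | zero => simp
    | succ k ih =>
      rw [show 2 * n * (k + 1) + i = (2 * n * k + i) + 2 * n by ring, pt_add, hper, map_smul,
        show ((w ^ (2 * n * k + i)).1 e) = pt w e (2 * n * k + i) from rfl, ih, smul_smul, pow_succ']
  have hle : k ≤ 2 * n * k + i := by
    have := C.three
    nlinarith
  obtain ⟨j, hj⟩ := Nat.exists_eq_add_of_le hle
  have h3 : polar Q (pt w e (2 * n * k + i)) (pt w u k) = 0 := by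
    rw [hj, pt_add]
    show polar Q _ ((w ^ k).1 u) = 0
    rw [polar_oG]; exact C.uperp j
  rw [h2, polar_smul_left, smul_eq_mul] at h3
  exact (mul_eq_zero.1 h3).resolve_left (pow_ne_zero _ hs)

omit C

/-- The vectors `x` with all multiples usable at the base point. -/
def smod (K : Subgroup (oG Q)) (e : V) : Submodule F V where
  carrier := {x | polar Q e x = 0 ∧ ∀ t : F, SMem K e (t • x)}
  zero_mem' := ⟨by simp [polar], fun t => by rw [smul_zero]; exact SMem.zero e⟩
  add_mem' := fun {a b} ha hb => ⟨by rw [polar_add_right, ha.1, hb.1, add_zero], fun t => by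
    rw [smul_add]; exact (ha.2 t).add (hb.2 t) (by rw [polar_smul_right, ha.1, smul_zero])⟩
  smul_mem' := fun c x hx => ⟨by rw [polar_smul_right, hx.1, smul_zero], fun t => by
    rw [smul_smul]; exact hx.2 _⟩

theorem mem_smod {x : V} : x ∈ smod K e ↔ polar Q e x = 0 ∧ ∀ t : F, SMem K e (t • x) := Iff.rfl

include hw in
theorem smod_shift {x : V} (hx : x ∈ smod K e) (k : ℕ) (t : F) : SMem K (pt w e k) (t • (w ^ k).1 x) := by
  rw [← map_smul]
  exact (hx.2 t).conj (pow_mem hw k)

include C

/-- First rule: two parameters that are not orthogonal give a point of the cycle. -/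
theorem Cyc.rule_one {v p q : V} (hv : v ∈ smod K e) (hp : Q p = 0) (hq : polar Q p q = 0) (hep : polar Q e p = 0)
    (heq : polar Q e q = 0) (hg : sO hp hq ∈ K) (hvp : polar Q v p = 0) (hvq : polar Q v q ≠ 0) :
    p ∈ smod K e := by
  refine ⟨hep, fun t => ?_⟩
  have hfix : (sO hp hq).1 e = e := siegel_fix hp hq hep heq
  have h1 := SMem.move hg hfix (hv.2 (t / polar Q v q)) (by rw [polar_smul_right, hv.1, smul_zero])
  have e1 : (sO hp hq).1 ((t / polar Q v q) • v) - (t / polar Q v q) • v = t • p := by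
    rw [sO_apply]
    simp only [polar_smul_left, smul_eq_mul, hvp, mul_zero, neg_zero, zero_smul, add_zero,
      div_mul_cancel₀ _ hvq, add_sub_cancel_left]
  rwa [e1] at h1

/-- Second rule. -/
theorem Cyc.rule_two {v p q : V} (hv : v ∈ smod K e) (hp : Q p = 0) (hq : polar Q p q = 0) (hep : polar Q e p = 0)
    (heq : polar Q e q = 0) (hg : sO hp hq ∈ K) (hvq : polar Q v q = 0) (hvp : polar Q v p ≠ 0) :
    q + Q q • p ∈ smod K e := by
  refine ⟨by rw [polar_add_right, polar_smul_right, heq, hep, smul_zero, add_zero], fun t => ?_⟩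
  have hfix : (sO hp hq).1 e = e := siegel_fix hp hq hep heq
  have h1 := SMem.move hg hfix (hv.2 (-t / polar Q v p)) (by rw [polar_smul_right, hv.1, smul_zero])
  have e1 : (sO hp hq).1 ((-t / polar Q v p) • v) - (-t / polar Q v p) • v = t • (q + Q q • p) := by
    rw [sO_apply]
    simp only [polar_smul_left, smul_eq_mul, hvq, mul_zero, zero_smul, add_zero, div_mul_cancel₀ _ hvp]
    match_scalars <;> ring
  rwa [e1] at h1

variable (hu : u ∈ smod K e)
include hw

theorem Cyc.L_add_period {d : ℕ} (h : pt w e d ∈ smod K e) : pt w e (d + 2 * n) ∈ smod K e := by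
  obtain ⟨s, -, hper⟩ := C.per
  rw [pt_add, hper, map_smul]
  exact Submodule.smul_mem _ s h

theorem Cyc.L_sub_period {d : ℕ} (h : pt w e (d + 2 * n) ∈ smod K e) : pt w e d ∈ smod K e := by
  obtain ⟨s, hs, hper⟩ := C.per
  rw [pt_add, hper, map_smul] at h
  have := Submodule.smul_mem _ s⁻¹ h
  rwa [inv_smul_smul₀ hs] at this

theorem Cyc.L_symm {d d' : ℕ} (h : pt w e d ∈ smod K e) (hd : d' + d = 2 * n) : pt w e d' ∈ smod K e := by
  obtain ⟨s, hs, hper⟩ := C.per
  have h1 : ∀ t : F, SMem K (pt w e d) (t • e) := fun t => by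
    by_cases ht : t = 0
    · subst ht; rw [zero_smul]; exact SMem.zero _
    have h2 := (SMem.swap C.Qe (by rw [Classical.Quad.map_smul', C.Qpt, mul_zero]) (h.2 (-t))
      (by rw [polar_smul_right, h.1, smul_zero])).of_smul_left (neg_ne_zero.2 ht)
    rwa [smul_neg, neg_smul, neg_neg] at h2
  have hperp : polar Q e (pt w e d') = 0 := by
    have h3 : polar Q (pt w e d') (pt w e (d' + d)) = 0 := by rw [pt_add, pt, polar_oG]; exact h.1
    rw [hd, hper, polar_smul_right, smul_eq_mul] at h3
    rw [polar_comm]; exact (mul_eq_zero.1 h3).resolve_left hs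
  refine ⟨hperp, fun t => ?_⟩
  have h4 := (h1 (t / s)).conj (pow_mem hw d')
  rw [map_smul, ← pt_add, hd, hper] at h4
  have h5 := h4.of_smul_left hs
  rw [smul_smul, mul_div_cancel₀ _ hs] at h5
  exact h5

/-- Composition of two points. -/
theorem Cyc.L_comp {a b : ℕ} (ha : pt w e a ∈ smod K e) (hb : pt w e b ∈ smod K e)
    (h1 : (a + n) % (2 * n) ≠ n) (h2 : (n + b) % (2 * n) ≠ n) (h3 : (a + n + b) % (2 * n) ≠ n) :
    pt w e (a + n + b) ∈ smod K e := by
  have hg : SMem K (pt w e (a + n)) (pt w e (a + n + b)) := by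
    have := smod_shift hw hb (a + n) 1
    rwa [one_smul, ← pt_add] at this
  have hq : polar Q (pt w e (a + n)) (pt w e (a + n + b)) = 0 := by
    rw [pt_add w e (a + n), pt, polar_oG]; exact hb.1
  have := C.rule_two ha (C.Qpt _) hq (C.perp _ h1) (C.perp _ h3) (hg _ hq)
    (by rw [show a + n + b = a + (n + b) by omega]; exact C.perp' a _ h2) (C.pair' a)
  rwa [C.Qpt, zero_smul, add_zero] at this

include hu

theorem Cyc.u_shift (k : ℕ) : SMem K (pt w e k) (pt w u k) := by
  have := smod_shift hw hu k 1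
  rwa [one_smul] at this

/-- Two equal levels of the short parameter. -/
theorem Cyc.L_of_polar {d : ℕ} (hd : d % (2 * n) ≠ n) (h : polar Q u (pt w u d) ≠ 0) :
    pt w e d ∈ smod K e :=
  C.rule_one hu (C.Qpt d) (C.upt_perp d d) (C.perp d hd) (C.upt_perp 0 d)
    (C.u_shift hw hu d (C.Qpt d) (C.upt_perp d d)) (by rw [polar_comm]; exact C.uperp d) h

/-- All points and both short parameters are usable as soon as the neighbouring point is. -/
theorem Cyc.all_of_one (h1 : pt w e 1 ∈ smod K e) :
    (∀ d, d % (2 * n) ≠ n → pt w e d ∈ smod K e) ∧ pt w u 1 ∈ smod K e := by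
  have h3 := C.three
  have hmod : ∀ d, d < 2 * n → d % (2 * n) = d := fun d hd => Nat.mod_eq_of_lt hd
  suffices hs : ∀ d, d < 2 * n → d ≠ n → d ≠ 0 → pt w e d ∈ smod K e by
    have hall : ∀ d, d % (2 * n) ≠ n → pt w e d ∈ smod K e := fun d hd => by
      obtain ⟨s, -, hper⟩ := C.per
      have hb : pt w e (d % (2 * n)) ∈ smod K e := by
        by_cases h0 : d % (2 * n) = 0
        · rw [h0, pt_zero]
          refine ⟨by rw [polar_self', C.Qe, mul_zero], fun t hp hpw => ?_⟩
          rw [sO_smul_self hp t hpw]; exact one_mem K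
        · exact hs _ (Nat.mod_lt _ (by omega)) hd h0
      have hk : ∀ k, pt w e (d % (2 * n) + 2 * n * k) ∈ smod K e := fun k => by
        induction k with
        | zero => simpa using hb
        | succ k ih => rw [Nat.mul_succ, ← add_assoc]; exact C.L_add_period hw ih
      have := hk (d / (2 * n))
      rwa [Nat.mod_add_div] at this
    refine ⟨hall, ?_⟩
    have h5 := C.rule_two (v := pt w e (1 + n)) (p := pt w e 1) (q := pt w u 1) (hall _ (by rw [hmod _ (by omega)]; omega))
      (C.Qpt 1) (C.upt_perp 1 1) (C.perp 1 (by rw [hmod _ (by omega)]; omega)) (C.upt_perp 0 1)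
      (C.u_shift hw hu 1 (C.Qpt 1) (C.upt_perp 1 1)) (C.upt_perp _ 1)
      (by rw [polar_comm]; exact C.pair' 1)
    have h6 := Submodule.sub_mem _ h5 (Submodule.smul_mem _ (Q (pt w u 1)) h1)
    rwa [add_sub_cancel_right] at h6
  rcases Nat.even_or_odd n with ⟨k, hk⟩ | ⟨k, hk⟩
  · -- even case
    have hn2 : pt w e (n + 2) ∈ smod K e := by
      have := C.L_comp hw h1 h1 (by rw [hmod _ (by omega)]; omega) (by rw [hmod _ (by omega)]; omega)
        (by rw [hmod _ (by omega)]; omega)
      rwa [show 1 + n + 1 = n + 2 by omega] at this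
    have step : ∀ d, 0 < d → d + 2 < 2 * n → d + 2 ≠ n → d ≠ n → pt w e d ∈ smod K e →
        pt w e (d + 2) ∈ smod K e := fun d h0 hd hd' hdn h => by
      refine C.L_sub_period hw ?_
      have := C.L_comp hw h hn2 ?_ ?_ ?_
      · rwa [show d + n + (n + 2) = d + 2 + 2 * n by omega] at this
      · rcases lt_or_ge d n with hl | hl
        · rw [hmod _ (by omega)]; omega
        · rw [show d + n = (d - n) + 2 * n by omega, Nat.add_mod_right, hmod _ (by omega)]; omega
      · rw [show n + (n + 2) = 2 + 2 * n by omega, Nat.add_mod_right, hmod _ (by omega)]; omega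
      · rw [show d + n + (n + 2) = (d + 2) + 2 * n by omega, Nat.add_mod_right, hmod _ (by omega)]; omega
    have hodd : ∀ i, 2 * i + 1 < n → pt w e (2 * i + 1) ∈ smod K e := by
      intro i
      induction i with
      | zero => exact fun _ => h1
      | succ i ih => exact fun hi => step (2 * i + 1) (by omega) (by omega) (by omega) (by omega) (ih (by omega))
    have heven : ∀ i, n + 2 + 2 * i < 2 * n → pt w e (n + 2 + 2 * i) ∈ smod K e := by
      intro i
      induction i with
      | zero => exact fun _ => hn2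
      | succ i ih => exact fun hi => step (n + 2 + 2 * i) (by omega) (by omega) (by omega) (by omega) (ih (by omega))
    intro d hd hdn hd0
    rcases Nat.even_or_odd d with ⟨i, hi⟩ | ⟨i, hi⟩
    · rcases lt_or_gt_of_ne hdn with hl | hl
      · refine C.L_symm hw (heven (k - 1 - i) (by omega)) (by omega)
      · have := heven (i - k - 1) (by omega)
        rwa [show n + 2 + 2 * (i - k - 1) = d by omega] at this
    · rcases lt_or_gt_of_ne hdn with hl | hl
      · rw [hi] at hl ⊢; exact hodd i hl
      · exact C.L_symm hw (hodd (2 * k - 1 - i) (by omega)) (by omega)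
  · -- odd case
    have hn1 : pt w e (1 + n) ∈ smod K e := by
      have hu' : pt w u (1 + n) = u := by rw [show 1 + n = 2 * (k + 1) by omega]; exact C.u_even _
      have h5 := C.rule_two (v := pt w e 1) (p := pt w e (1 + n)) (q := pt w u (1 + n)) h1
        (C.Qpt _) (C.upt_perp _ _) (C.perp _ (by rw [hmod _ (by omega)]; omega)) (C.upt_perp 0 _)
        (C.u_shift hw hu _ (C.Qpt _) (C.upt_perp _ _)) (C.upt_perp 1 _) (C.pair' 1)
      rw [hu'] at h5
      have h6 := Submodule.smul_mem _ (Q u)⁻¹ (Submodule.sub_mem _ h5 hu)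
      rwa [add_sub_cancel_left, inv_smul_smul₀ C.Qu] at h6
    have hlow : ∀ d, 0 < d → d < n → pt w e d ∈ smod K e := by
      intro d
      induction d with
      | zero => exact fun h => absurd h (lt_irrefl _)
      | succ d ih =>
        intro _ hd
        rcases Nat.eq_zero_or_pos d with rfl | hd0
        · exact h1
        refine C.L_sub_period hw ?_
        have := C.L_comp hw (ih hd0 (by omega)) hn1 (by rw [hmod _ (by omega)]; omega)
          (by rw [show n + (1 + n) = 1 + 2 * n by omega, Nat.add_mod_right, hmod _ (by omega)]; omega)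
          (by rw [show d + n + (1 + n) = (d + 1) + 2 * n by omega, Nat.add_mod_right, hmod _ (by omega)]; omega)
        rwa [show d + n + (1 + n) = d + 1 + 2 * n by omega] at this
    intro d hd hdn hd0
    rcases lt_or_gt_of_ne hdn with hl | hl
    · exact hlow d (by omega) hl
    · exact C.L_symm hw (hlow (2 * n - d) (by omega) (by omega)) (by omega)

/-- All Siegel transformations are in the subgroup. -/
theorem Cyc.eo_le (hQ : (polarBilin Q).Nondegenerate) (h1 : pt w e 1 ∈ smod K e) : eo Q ≤ K := by
  obtain ⟨hL, hU⟩ := C.all_of_one hw hu h1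
  have hperp : ∀ x, polar Q e x = 0 → x ∈ smod K e := fun x hx => by
    refine Submodule.span_le.2 ?_ (C.span x hx)
    rintro y (⟨d, hd, rfl⟩ | rfl | rfl)
    exacts [hL d hd, hu, hU]
  have he : ∀ x, SMem K e x := fun x hp hpw => by
    have := (hperp x hpw).2 1
    rw [one_smul] at this
    exact this hp hpw
  set κ := polar Q e (pt w e n) with hκ
  have hn : ∀ x, SMem K (pt w e n) x := fun x => by
    have h := (he (((w ^ n)⁻¹).1 x)).conj (pow_mem hw n)
    rwa [oG_apply_inv] at h
  refine eo_le_of_pair hQ C.Qe (f := κ⁻¹ • pt w e n) (by rw [Classical.Quad.map_smul', C.Qpt, mul_zero])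
    (by rw [polar_smul_right, smul_eq_mul, ← hκ, inv_mul_cancel₀ C.pair]) he fun x => ?_
  exact SMem.smul_left (inv_ne_zero C.pair) (hn _)

end

end Cfsg.Agent.OmegaTwoGen
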